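import Groth.Agent.Lib.FunFld.Res.Basic
import Groth.Agent.Lib.FunFld.Weil

/-! The Weil differential of a differential. -/

namespace Groth.Agent.Lib.FunFld.Res.Omega

open WithZero
open Groth.Agent.Lib.FunFld

universe u v w
variable {k : Type u} {K : Type v} [Field k] [Field K] [Algebra k K]

section Linear

variable {F : Type w} [Field F] [Algebra k F] (φ : K →ₐ[k] LaurentSeries F)

theorem locRes_add (x y v : K) :
    LocRes.locRes φ (x + y) v = LocRes.locRes φ x v + LocRes.locRes φ y v := by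
  rw [LocRes.locRes, LocRes.locRes, LocRes.locRes, LocRes.resExp, LocRes.resExp, LocRes.resExp,
    map_add φ, add_mul, map_add, map_add]

theorem locRes_smul (c : k) (x v : K) :
    LocRes.locRes φ (c • x) v = c • LocRes.locRes φ x v := by
  rw [LocRes.locRes, LocRes.locRes, LocRes.resExp, LocRes.resExp, LocRes.res_apply, LocRes.res_apply,
    Algebra.smul_def, map_mul φ, LocRes.map_algebraMap, mul_assoc, HahnSeries.C_mul_eq_smul,
    HahnSeries.coeff_smul, smul_eq_mul, ← Algebra.smul_def, map_smul]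

theorem vDiff_mul (x y v : K) :
    LocRes.vDiff φ (x * y) v = Valued.v (φ x) * LocRes.vDiff φ y v := by
  rw [LocRes.vDiff, LocRes.vDiff, map_mul φ, mul_assoc, map_mul]

variable {P : _root_.FunFld.Place k K} {φ}

theorem exists_approx_series (hφ : LocRes.IsExpansionAt P.1 φ) (g : LaurentSeries F) (n : ℤ) :
    ∃ y : K, Valued.v (φ y - g) ≤ exp n := by
  obtain ⟨t, ht⟩ := hφ.2.2
  set M := (log (Valued.v g)).natAbs
  have htM : Valued.v (φ (t ^ M)) = exp (-(M : ℤ)) := by
    rw [hφ.1, map_pow, ht, ← exp_nsmul, nsmul_eq_mul, mul_neg, mul_one]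
  have htM0 : φ (t ^ M) ≠ 0 := fun h => by rw [h, map_zero] at htM; exact exp_ne_zero htM.symm
  obtain ⟨p, hp⟩ := (LaurentSeries.val_le_one_iff_eq_coe F _).mp
    (show Valued.v (g * φ (t ^ M)) ≤ 1 by
      rw [map_mul, htM]
      rcases eq_or_ne (Valued.v g) 0 with h | h
      · rw [h, zero_mul]; exact zero_le
      · rw [← exp_log h, ← exp_add]
        refine le_of_le_of_eq ?_ exp_zero
        rw [exp_le_exp]
        omega)
  obtain ⟨a, ha⟩ := Coef.exists_approx hφ p (M + n.natAbs)
  refine ⟨a / t ^ M, ?_⟩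
  have he : φ (a / t ^ M) - g = (φ a - (p : LaurentSeries F)) * (φ (t ^ M))⁻¹ := by
    rw [map_div₀, hp, sub_mul, mul_assoc, mul_inv_cancel₀ htM0, mul_one, div_eq_mul_inv]
  rw [he, map_mul, map_inv₀, htM, ← exp_neg, neg_neg]
  refine (mul_le_mul_left ha _).trans ?_
  rw [← exp_add, exp_le_exp]
  omega

/-- The residue pairing at one place is nondegenerate. -/
theorem exists_locRes_ne_zero [FiniteDimensional k F] [Algebra.IsSeparable k F]
    (hφ : LocRes.IsExpansionAt P.1 φ) {u v : K} {E : ℤ}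
    (h : ¬ LocRes.vDiff φ u v ≤ exp (-E)) :
    ∃ y : K, P.1 y ≤ exp E ∧ LocRes.locRes φ (y * u) v ≠ 0 := by
  obtain ⟨a, ha⟩ : ∃ a : F, Algebra.trace k F a ≠ 0 := by
    by_contra! h0
    exact Algebra.trace_ne_zero k F (LinearMap.ext h0)
  set g := φ u * LocRes.D F (φ v) with hg
  have hg0 : Valued.v g ≠ 0 := fun h0 => h (by
    change Valued.v g ≤ _
    rw [h0]
    exact zero_le)
  set e := log (Valued.v g) with he
  have hge : Valued.v g = exp e := (exp_log hg0).symm
  have hlt : -E < e := by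
    by_contra hle
    exact h (hge.trans_le (exp_le_exp.mpr (not_lt.mp hle)))
  set target := HahnSeries.single (-1 : ℤ) a * g⁻¹ with htar
  have hsingle : Valued.v (HahnSeries.single (-1 : ℤ) a) ≤ exp (1 : ℤ) := by
    rw [show exp (1 : ℤ) = exp (-(-1 : ℤ)) by rw [neg_neg]]
    exact (LaurentSeries.valuation_le_iff_coeff_lt_eq_zero F).mpr fun m hm =>
      HahnSeries.coeff_single_of_ne hm.ne
  obtain ⟨y, hy⟩ := exists_approx_series hφ target (-e)
  refine ⟨y, ?_, ?_⟩
  · rw [← hφ.1, show φ y = (φ y - target) + target from (sub_add_cancel _ _).symm]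
    refine Valuation.map_add_le _ (hy.trans (exp_le_exp.mpr (by omega))) ?_
    rw [htar, map_mul, map_inv₀, hge, ← exp_neg]
    refine (mul_le_mul_left hsingle _).trans ?_
    rw [← exp_add, exp_le_exp]
    omega
  · have hsmall : Valued.v ((φ y - target) * g) ≤ exp (-(0 : ℤ)) := by
      rw [map_mul, hge]
      refine (mul_le_mul_left hy _).trans ?_
      rw [← exp_add, neg_add_cancel, neg_zero]
    have h1 : φ (y * u) * LocRes.D F (φ v) = (φ y - target) * g + HahnSeries.single (-1 : ℤ) a := by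
      rw [map_mul, mul_assoc, ← hg, sub_mul, htar, mul_assoc,
        inv_mul_cancel₀ ((Valuation.ne_zero_iff _).mp hg0), mul_one, sub_add_cancel]
    rw [LocRes.locRes, LocRes.resExp, LocRes.res_apply, h1, HahnSeries.coeff_add,
      HahnSeries.coeff_single_same,
      (LaurentSeries.valuation_le_iff_coeff_lt_eq_zero F).mp hsmall (-1) (by norm_num), zero_add]
    exact ha

end Linear

variable {F : _root_.FunFld.Place k K → Type w} [∀ P, Field (F P)] [∀ P, Algebra k (F P)]
  [∀ P, FiniteDimensional k (F P)]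
  (φ : ∀ P, K →ₐ[k] LaurentSeries (F P))
  (hφ : ∀ P : _root_.FunFld.Place k K, LocRes.IsExpansionAt P.1 (φ P))
  (hK : FunFld.IsFunctionField k K)
include hφ hK

omit [∀ P, FiniteDimensional k (F P)] in
theorem finite_support_mul (u v : K) (a : FunFld.adele k K) :
    (Function.support fun P => LocRes.locRes (φ P) ((a : _root_.FunFld.Place k K → K) P * u) v).Finite := by
  refine Basic.finite_locRes φ hφ hK ?_ v
  have ha : ∀ᶠ P : _root_.FunFld.Place k K in Filter.cofinite,
      P.1 ((a : _root_.FunFld.Place k K → K) P) ≤ 1 := a.2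
  exact (ha.and (Basic.eventually_val_le_one hK u)).mono fun P h =>
    (map_mul P.1 _ _).trans_le (mul_le_one' h.1 h.2)

/-- The functional `a ↦ ∑ Res (a u dv)`. -/
noncomputable def om (u v : K) : Module.Dual k (FunFld.adele k K) where
  toFun a := ∑ᶠ P, LocRes.locRes (φ P) ((a : _root_.FunFld.Place k K → K) P * u) v
  map_add' a b := by
    rw [← finsum_add_distrib (finite_support_mul φ hφ hK u v a) (finite_support_mul φ hφ hK u v b)]
    exact finsum_congr fun P => by
      rw [Submodule.coe_add, Pi.add_apply, add_mul, locRes_add]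
  map_smul' c a := by
    rw [RingHom.id_apply, smul_finsum]
    exact finsum_congr fun P => by
      rw [Submodule.coe_smul, Pi.smul_apply, smul_mul_assoc, locRes_smul]

omit [∀ P, FiniteDimensional k (F P)] in
theorem om_apply (u v : K) (a : FunFld.adele k K) :
    om φ hφ hK u v a = ∑ᶠ P, LocRes.locRes (φ P) ((a : _root_.FunFld.Place k K → K) P * u) v := rfl

theorem mem_WD {u v : K} {E : _root_.FunFld.Divisor k K}
    (h : ∀ P, LocRes.vDiff (φ P) u v ≤ exp (-(E P))) : om φ hφ hK u v ∈ FunFld.WD E := by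
  rw [Weil.mem_WD_iff]
  intro a ha
  obtain ⟨b, hb, c, ⟨z, hz⟩, hbc⟩ := Submodule.mem_sup.mp ha
  rw [om_apply]
  have hb0 : ∀ P, LocRes.locRes (φ P) (b P * u) v = 0 := fun P => Basic.locRes_eq_zero_of_val (by
    rw [vDiff_mul, (hφ P).1]
    refine (mul_le_mul' (hb P) (h P)).trans ?_
    rw [← exp_add, add_neg_cancel, exp_zero])
  refine (finsum_congr fun P => ?_).trans (Basic.sum_locRes_eq_zero φ hφ hK (z * u) v)
  rw [show (a : _root_.FunFld.Place k K → K) P = b P + z by
    rw [show (a : _root_.FunFld.Place k K → K) = b + c from hbc.symm, Pi.add_apply, ← hz]; rfl,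
    add_mul, locRes_add, hb0, zero_add]

omit [∀ P, FiniteDimensional k (F P)] in
theorem mulLin_om (x u v : K) :
    Weil.mulLin hK (om φ hφ hK u v) x = om φ hφ hK (x * u) v := by
  refine LinearMap.ext fun a => ?_
  rw [Weil.mulLin_apply, om_apply, om_apply]
  exact finsum_congr fun P => by
    change LocRes.locRes (φ P) (x * (a : _root_.FunFld.Place k K → K) P * u) v = _
    rw [ mul_comm x ((a : _root_.FunFld.Place k K → K) P), mul_assoc]

variable (hsep : ∃ x₀ : K, Hasse.Separable.IsSep k x₀)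
include hsep

theorem exists_om_ne_zero {u v : K} {E : _root_.FunFld.Divisor k K}
    {P : _root_.FunFld.Place k K} (h : ¬ LocRes.vDiff (φ P) u v ≤ exp (-(E P))) :
    ∃ a : FunFld.adele k K, a ∈ FunFld.ADK E ∧ om φ hφ hK u v a ≠ 0 := by
  classical
  have := SepRes.isSeparable_of_expansion (hφ P) hsep
  obtain ⟨y, hy, hne⟩ := exists_locRes_ne_zero (hφ P) h
  have hmem : ∀ Q : _root_.FunFld.Place k K,
      Q.1 ((Pi.single P y : _root_.FunFld.Place k K → K) Q) ≤ exp (E Q) := fun Q => by
    rcases eq_or_ne Q P with rfl | hQ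
    · rwa [Pi.single_eq_same]
    · rw [Pi.single_eq_of_ne hQ, map_zero]; exact zero_le
  have had : (Pi.single P y : _root_.FunFld.Place k K → K) ∈ FunFld.adele k K := by
    change ∀ᶠ Q : _root_.FunFld.Place k K in Filter.cofinite,
      Q.1 ((Pi.single P y : _root_.FunFld.Place k K → K) Q) ≤ 1
    rw [Filter.eventually_cofinite]
    refine (Set.finite_singleton P).subset fun Q hQ => ?_
    by_contra hne'
    exact hQ (by rw [Pi.single_eq_of_ne hne', map_zero]; exact zero_le)
  refine ⟨⟨_, had⟩, Submodule.mem_sup_left hmem, ?_⟩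
  rw [om_apply, finsum_eq_single _ P fun Q hQ => ?_]
  · simpa using hne
  · rw [show ((⟨_, had⟩ : FunFld.adele k K) : _root_.FunFld.Place k K → K) Q = 0 from
      Pi.single_eq_of_ne hQ _, zero_mul]
    exact Basic.locRes_eq_zero_of_val (by rw [LocRes.vDiff, map_zero, zero_mul, map_zero]; exact zero_le)

theorem mem_WD_iff (u v : K) (E : _root_.FunFld.Divisor k K) :
    om φ hφ hK u v ∈ FunFld.WD E ↔ ∀ P, LocRes.vDiff (φ P) u v ≤ exp (-(E P)) := by
  refine ⟨fun h P => ?_, mem_WD φ hφ hK⟩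
  by_contra hP
  obtain ⟨a, ha, hne⟩ := exists_om_ne_zero φ hφ hK hsep hP
  exact hne (Weil.mem_WD_iff.mp h a ha)

omit [∀ P, FiniteDimensional k (F P)] in
theorem vDiff_ne_zero {u v : K} (hu : u ≠ 0) (hv : KaehlerDifferential.D k K v ≠ 0)
    (P : _root_.FunFld.Place k K) : LocRes.vDiff (φ P) u v ≠ 0 :=
  (Valuation.ne_zero_iff _).mpr (mul_ne_zero ((map_ne_zero (φ P)).mpr hu)
    (SepRes.D_ne_zero hK hsep (hφ P) hv))

theorem isWeil (u : K) {v : K} (hv : KaehlerDifferential.D k K v ≠ 0) :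
    FunFld.IsWeil (om φ hφ hK u v) := by
  rcases eq_or_ne u 0 with rfl | hu
  · exact ⟨0, mem_WD φ hφ hK fun P => by
      rw [LocRes.vDiff, map_zero, zero_mul, map_zero]; exact zero_le⟩
  have hfin : (Function.support fun P => min 0 (LocRes.ordDiff (φ P) u v)).Finite := by
    refine (Filter.eventually_cofinite.mp ((Basic.eventually_val_le_one hK u).and
      (Basic.eventually_val_le_one hK v))).subset fun P hP h => hP (min_eq_left ?_)
    have h1 := Basic.vDiff_le_one (hφ P) h.1 h.2
    rw [← exp_log (vDiff_ne_zero φ hφ hK hsep hu hv P), ← exp_zero, exp_le_exp] at h1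
    rw [LocRes.ordDiff]
    omega
  refine ⟨Finsupp.ofSupportFinite _ hfin, mem_WD φ hφ hK fun P => ?_⟩
  rw [Finsupp.ofSupportFinite_coe, ← exp_log (vDiff_ne_zero φ hφ hK hsep hu hv P), exp_le_exp,
    LocRes.ordDiff]
  omega

theorem om_ne_zero {u v : K} (hu : u ≠ 0) (hv : KaehlerDifferential.D k K v ≠ 0) :
    om φ hφ hK u v ≠ 0 := by
  classical
  obtain ⟨P, -⟩ : ∃ _P : _root_.FunFld.Place k K, True := by
    obtain ⟨t, ht⟩ := Riemann.exists_transcendental hK
    obtain ⟨P, -⟩ := Existence.exists_zero hK ht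
    exact ⟨P, trivial⟩
  set E := Finsupp.single P (LocRes.ordDiff (φ P) u v + 1)
  obtain ⟨a, -, hne⟩ := exists_om_ne_zero φ hφ hK hsep (E := E) (P := P) (by
    rw [Finsupp.single_eq_same, ← exp_log (vDiff_ne_zero φ hφ hK hsep hu hv P), exp_le_exp,
      LocRes.ordDiff]
    omega)
  exact fun h => hne (by rw [h]; rfl)

/-- The divisor of a differential is the divisor of its Weil differential. -/
theorem exists_isDivOf {u v : K} (hu : u ≠ 0) (hv : KaehlerDifferential.D k K v ≠ 0) :
    ∃ C : _root_.FunFld.Divisor k K, FunFld.IsDivOf (om φ hφ hK u v) C ∧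
      ∀ P, C P = LocRes.ordDiff (φ P) u v := by
  classical
  obtain ⟨C, hC⟩ := Weil.exists_isDivOf hK (isWeil φ hφ hK hsep u hv)
    (om_ne_zero φ hφ hK hsep hu hv)
  have hiff : ∀ E : _root_.FunFld.Divisor k K, E ≤ C ↔ ∀ P, E P ≤ LocRes.ordDiff (φ P) u v := fun E => by
    rw [← hC E, mem_WD_iff φ hφ hK hsep]
    refine forall_congr' fun P => ?_
    rw [← exp_log (vDiff_ne_zero φ hφ hK hsep hu hv P), exp_le_exp, LocRes.ordDiff]
    omega
  refine ⟨C, hC, fun P => le_antisymm ((hiff C).mp le_rfl P) ?_⟩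
  have h := (hiff (C.update P (LocRes.ordDiff (φ P) u v))).mpr (fun Q => by
    rcases eq_or_ne Q P with rfl | hQ
    · rw [Finsupp.coe_update, Function.update_self]
    · rw [Finsupp.coe_update, Function.update_of_ne hQ]; exact (hiff C).mp le_rfl Q) P
  rwa [Finsupp.coe_update, Function.update_self] at h

/-- The canonical divisor of a differential. -/
theorem exists_canonical {u v : K} (hu : u ≠ 0) (hv : KaehlerDifferential.D k K v ≠ 0) :
    ∃ C : _root_.FunFld.Divisor k K, FunFld.IsCanonical k K C ∧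
      ∀ P, C P = LocRes.ordDiff (φ P) u v := by
  obtain ⟨C, hC, h⟩ := exists_isDivOf φ hφ hK hsep hu hv
  exact ⟨C, ⟨_, om_ne_zero φ hφ hK hsep hu hv, hC⟩, h⟩

theorem finite_ordDiff {u v : K} (hu : u ≠ 0) (hv : KaehlerDifferential.D k K v ≠ 0) :
    (Function.support fun P => LocRes.ordDiff (φ P) u v).Finite := by
  obtain ⟨C, -, h⟩ := exists_canonical φ hφ hK hsep hu hv
  exact C.hasFiniteSupport.subset fun P hP => by rwa [Function.mem_support, h]

/-- Every Weil differential is the functional of a unique differential. -/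
theorem existsUnique_om {v : K} (hv : KaehlerDifferential.D k K v ≠ 0)
    {ω : Module.Dual k (FunFld.adele k K)} (hω : FunFld.IsWeil ω) :
    ∃! u : K, om φ hφ hK u v = ω := by
  obtain ⟨x, hx⟩ := Weil.exists_mulLin_eq hK (isWeil φ hφ hK hsep 1 hv)
    (om_ne_zero φ hφ hK hsep one_ne_zero hv) hω
  rw [mulLin_om, mul_one] at hx
  refine ⟨x, hx, fun y hy => ?_⟩
  refine Weil.mulLin_injective hK (om_ne_zero φ hφ hK hsep one_ne_zero hv) ?_
  rw [mulLin_om, mulLin_om, mul_one, mul_one, hx]
  exact hy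

/-- Differentials bounded by a divisor and Weil differentials. -/
theorem finrank_span {v : K} (hv : KaehlerDifferential.D k K v ≠ 0) (D : _root_.FunFld.Divisor k K) :
    Module.finrank k (Submodule.span k {y : K | ∀ P, LocRes.vDiff (φ P) y v ≤ exp (-(D P))}) =
      Module.finrank k (FunFld.WD D) := by
  set ω₁ := om φ hφ hK 1 v
  have hmem : ∀ y : K, Weil.mulLin hK ω₁ y ∈ FunFld.WD D ↔
      ∀ P, LocRes.vDiff (φ P) y v ≤ exp (-(D P)) := fun y => by
    rw [mulLin_om, mul_one, mem_WD_iff φ hφ hK hsep]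
  have hspan : Submodule.span k {y : K | ∀ P, LocRes.vDiff (φ P) y v ≤ exp (-(D P))} =
      (FunFld.WD D).comap (Weil.mulLin hK ω₁) := by
    refine le_antisymm (Submodule.span_le.mpr fun y hy => (hmem y).mpr hy) fun y hy => ?_
    exact Submodule.subset_span ((hmem y).mp hy)
  rw [hspan, (Submodule.equivMapOfInjective _
    (Weil.mulLin_injective hK (om_ne_zero φ hφ hK hsep one_ne_zero hv)) _).finrank_eq,
    Submodule.map_comap_eq_self]
  intro ω hω
  obtain ⟨y, hy⟩ := Weil.exists_mulLin_eq hK (isWeil φ hφ hK hsep 1 hv)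
    (om_ne_zero φ hφ hK hsep one_ne_zero hv) ⟨D, hω⟩
  exact ⟨y, hy⟩

end Groth.Agent.Lib.FunFld.Res.Omega
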