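import Groth.Agent.Lib.FunFld.Res.Coef
import Groth.Agent.Lib.FunFld.Hasse.Separable
import Mathlib.FieldTheory.PurelyInseparable.PerfectClosure
import Mathlib.RingTheory.PowerSeries.Expand
import Mathlib.RingTheory.Trace.Basic

/-! Residue fields of places with an expansion and separating elements. -/

namespace Groth.Agent.Lib.FunFld.Res.SepRes

open WithZero
open Groth.Agent.Lib.FunFld

universe u v w
variable {k : Type u} {K : Type v} {F : Type w} [Field k] [Field K] [Field F] [Algebra k K]
  [Algebra k F] {P : _root_.FunFld.Place k K} {φ : K →ₐ[k] LaurentSeries F}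

theorem D_uniformizer_ne_zero (hφ : LocRes.IsExpansionAt P.1 φ) :
    ∃ t : K, LocRes.D F (φ t) ≠ 0 := by
  obtain ⟨hv, -, t, ht⟩ := hφ
  refine ⟨t, fun h => ?_⟩
  have hle : Valued.v (φ t) ≤ exp (-(1 : ℤ)) := (hv t).trans_le ht.le
  have hlow := (LaurentSeries.valuation_le_iff_coeff_lt_eq_zero F).mp hle
  have h1 : (φ t).coeff 1 = 0 := by
    have h0 : (LocRes.D F (φ t)).coeff 0 = 0 := by rw [h]; rfl
    rwa [LocRes.D_coeff, zero_add, one_zsmul] at h0
  have h2 : Valued.v (φ t) ≤ exp (-(2 : ℤ)) :=
    (LaurentSeries.valuation_le_iff_coeff_lt_eq_zero F).mpr fun m hm => by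
      rcases lt_or_eq_of_le (show m ≤ 1 by omega) with hm1 | rfl
      · exact hlow m hm1
      · exact h1
  rw [hv, ht, exp_le_exp] at h2
  norm_num at h2

theorem D_ne_zero_of_isSep (hφ : LocRes.IsExpansionAt P.1 φ) {x : K}
    (hx : Hasse.Separable.IsSep k x) : LocRes.D F (φ x) ≠ 0 := fun h => by
  let _ := φ.toRingHom.toAlgebra
  have := LocRes.isScalarTower_exp φ
  obtain ⟨t, ht⟩ := D_uniformizer_ne_zero hφ
  exact ht (DFunLike.congr_fun
    (Hasse.Separable.derivation_eq_zero hx (LocRes.dExp φ) h) t)

theorem D_ne_zero (hK : FunFld.IsFunctionField k K) (hsep : ∃ x₀ : K, Hasse.Separable.IsSep k x₀)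
    (hφ : LocRes.IsExpansionAt P.1 φ) {x : K} (hx : KaehlerDifferential.D k K x ≠ 0) :
    LocRes.D F (φ x) ≠ 0 :=
  D_ne_zero_of_isSep hφ (Hasse.Separable.isSep_of_D_ne_zero hK hsep hx)

theorem D_eq_zero_of_kaehler (φ : K →ₐ[k] LaurentSeries F) {x : K}
    (hx : KaehlerDifferential.D k K x = 0) : LocRes.D F (φ x) = 0 := by
  let _ := φ.toRingHom.toAlgebra
  have := LocRes.isScalarTower_exp φ
  have h := (LocRes.dExp φ).liftKaehlerDifferential_comp_D x
  rw [hx, map_zero] at h
  exact h.symm

/-- A derivation of the coefficients applied coefficientwise. -/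
noncomputable def coefDer (δ : Derivation k F F) : LaurentSeries F →+ LaurentSeries F where
  toFun g := g.map (δ : F →ₗ[k] F).toAddMonoidHom
  map_zero' := by ext; simp
  map_add' a b := by ext; simp

theorem coefDer_coeff (δ : Derivation k F F) (g : LaurentSeries F) (n : ℤ) :
    (coefDer δ g).coeff n = δ (g.coeff n) := rfl

theorem coefDer_single_mul (δ : Derivation k F F) (n : ℤ) (g : LaurentSeries F) :
    coefDer δ (HahnSeries.single n 1 * g) = HahnSeries.single n 1 * coefDer δ g := by
  ext m
  rw [coefDer_coeff, HahnSeries.coeff_single_mul, HahnSeries.coeff_single_mul, one_mul, one_mul,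
    coefDer_coeff]

theorem coefDer_coe (δ : Derivation k F F) (p : PowerSeries F) :
    coefDer δ (p : LaurentSeries F) =
      ((PowerSeries.mk fun n => δ (PowerSeries.coeff n p) : PowerSeries F) : LaurentSeries F) := by
  ext m
  rw [coefDer_coeff, PowerSeries.coeff_coe, PowerSeries.coeff_coe]
  split_ifs
  · exact map_zero δ
  · rw [PowerSeries.coeff_mk]

theorem coefDer_mul (δ : Derivation k F F) (f g : LaurentSeries F) :
    coefDer δ (f * g) = f * coefDer δ g + g * coefDer δ f := by
  obtain ⟨a, p, rfl⟩ : ∃ (a : ℤ) (p : PowerSeries F), f = HahnSeries.single a 1 * (p : LaurentSeries F) :=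
    ⟨_, _, f.single_order_mul_powerSeriesPart.symm⟩
  obtain ⟨b, q, rfl⟩ : ∃ (b : ℤ) (q : PowerSeries F), g = HahnSeries.single b 1 * (q : LaurentSeries F) :=
    ⟨_, _, g.single_order_mul_powerSeriesPart.symm⟩
  have hpq : coefDer δ ((p : LaurentSeries F) * (q : LaurentSeries F)) =
      (p : LaurentSeries F) * coefDer δ (q : LaurentSeries F) +
        (q : LaurentSeries F) * coefDer δ (p : LaurentSeries F) := by
    rw [← PowerSeries.coe_mul, coefDer_coe, coefDer_coe, coefDer_coe, ← PowerSeries.coe_mul,
      ← PowerSeries.coe_mul, ← PowerSeries.coe_add]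
    congr 1
    ext n
    rw [PowerSeries.coeff_mk, map_add, PowerSeries.coeff_mul, PowerSeries.coeff_mul, map_sum,
      PowerSeries.coeff_mul]
    conv_rhs => arg 2; rw [← Finset.Nat.sum_antidiagonal_swap]
    rw [← Finset.sum_add_distrib]
    refine Finset.sum_congr rfl fun x _ => ?_
    rw [PowerSeries.coeff_mk, PowerSeries.coeff_mk, Derivation.leibniz, smul_eq_mul, smul_eq_mul]
    simp only [Prod.fst_swap, Prod.snd_swap]
  rw [mul_mul_mul_comm, HahnSeries.single_mul_single, mul_one, coefDer_single_mul, hpq,
    coefDer_single_mul, coefDer_single_mul, ← mul_one (1 : F), ← HahnSeries.single_mul_single, mul_one]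
  ring

theorem coefDer_small (δ : Derivation k F F) {g : LaurentSeries F} {m : ℤ}
    (h : Valued.v g ≤ exp (-m)) : Valued.v (coefDer δ g) ≤ exp (-m) :=
  (LaurentSeries.valuation_le_iff_coeff_lt_eq_zero F).mpr fun n hn => by
    rw [coefDer_coeff, (LaurentSeries.valuation_le_iff_coeff_lt_eq_zero F).mp h n hn, map_zero]

theorem D_small {g : LaurentSeries F} {m : ℤ} (h : Valued.v g ≤ exp (-m)) :
    Valued.v (LocRes.D F g) ≤ exp (-(m - 1)) :=
  (LaurentSeries.valuation_le_iff_coeff_lt_eq_zero F).mpr fun n hn => by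
    rw [LocRes.D_coeff, (LaurentSeries.valuation_le_iff_coeff_lt_eq_zero F).mp h (n + 1) (by omega),
      smul_zero]

/-- With a separating element, the coefficient field of an expansion is separable. -/
theorem isSeparable_of_expansion [FiniteDimensional k F] (hφ : LocRes.IsExpansionAt P.1 φ)
    (hsep : ∃ x₀ : K, Hasse.Separable.IsSep k x₀) : Algebra.IsSeparable k F := by
  by_contra hns
  have hns' : ¬ Subsingleton (KaehlerDifferential k F) := fun h =>
    hns ((Algebra.FormallyUnramified.iff_isSeparable k F).mp ⟨h⟩)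
  obtain ⟨δ, a, ha⟩ : ∃ (δ : Derivation k F F) (a : F), δ a ≠ 0 := by
    by_contra! h
    refine hns' (subsingleton_of_forall_eq 0 fun ω => ?_)
    refine (Module.forall_dual_apply_eq_zero_iff F ω).mp fun f => ?_
    have hf : f = 0 := LinearMap.ext_on (KaehlerDifferential.span_range_derivation k F) (by
      rintro _ ⟨z, rfl⟩
      exact h (f.compDer (KaehlerDifferential.D k F)) z)
    rw [hf, LinearMap.zero_apply]
  obtain ⟨x, hx⟩ := hsep
  let _ := φ.toRingHom.toAlgebra
  have := LocRes.isScalarTower_exp φ
  set c := coefDer δ (φ x) / LocRes.D F (φ x) with hc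
  let d : Derivation k K (LaurentSeries F) :=
    { toFun := fun z => coefDer δ (φ z) - c * LocRes.D F (φ z)
      map_add' := fun z z' => by rw [map_add, map_add, map_add]; ring
      map_smul' := fun r z => by
        have hC : ∀ g : LaurentSeries F, r • g = HahnSeries.C (algebraMap k F r) * g := fun g => by
          rw [HahnSeries.C_mul_eq_smul, algebraMap_smul]
        have h1 : coefDer δ (HahnSeries.C (algebraMap k F r)) = 0 := by
          ext n
          rw [coefDer_coeff, HahnSeries.C_apply]
          rcases eq_or_ne n 0 with rfl | hn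
          · rw [HahnSeries.coeff_single_same, Derivation.map_algebraMap]; rfl
          · rw [HahnSeries.coeff_single_of_ne hn, map_zero]; rfl
        simp only [RingHom.id_apply]
        rw [Algebra.smul_def, map_mul, LocRes.map_algebraMap, hC, coefDer_mul, h1, mul_zero, add_zero, Derivation.leibniz,
          LocRes.D_apply F (HahnSeries.C _), LocRes.derivative_C, smul_eq_mul, smul_eq_mul,
          mul_zero, add_zero]
        ring
      map_one_eq_zero' := by
        change coefDer δ (φ 1) - c * LocRes.D F (φ 1) = 0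
        rw [map_one, Derivation.map_one_eq_zero, mul_zero, sub_zero]
        ext n
        rw [coefDer_coeff, HahnSeries.coeff_one]
        split_ifs <;> simp
      leibniz' := fun z z' => by
        change coefDer δ (φ (z * z')) - c * LocRes.D F (φ (z * z')) =
          φ z * (coefDer δ (φ z') - c * LocRes.D F (φ z')) +
            φ z' * (coefDer δ (φ z) - c * LocRes.D F (φ z))
        rw [map_mul, coefDer_mul, Derivation.leibniz, smul_eq_mul, smul_eq_mul]
        ring }
  have hd : d = 0 := Hasse.Separable.derivation_eq_zero hx d (by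
    change coefDer δ (φ x) - c * LocRes.D F (φ x) = 0
    rw [hc, div_mul_cancel₀ _ (D_ne_zero_of_isSep hφ hx), sub_self])
  -- compare on an element near the constant `a`
  obtain ⟨m, hm⟩ : ∃ m : ℕ, Valued.v c ≤ exp (m : ℤ) := by
    rcases eq_or_ne (Valued.v c) 0 with h | h
    · exact ⟨0, by rw [h]; exact zero_le⟩
    · exact ⟨(log (Valued.v c)).natAbs, by rw [← exp_log h, exp_le_exp, log_exp]; exact Int.le_natAbs⟩
  obtain ⟨z, hz⟩ := Coef.exists_approx hφ (PowerSeries.C a) (m + 2)
  rw [HahnSeries.ofPowerSeries_C] at hz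
  set g := φ z - HahnSeries.C a
  have h0 : coefDer δ (φ z) = c * LocRes.D F (φ z) := sub_eq_zero.mp (DFunLike.congr_fun hd z)
  have hDg : LocRes.D F (φ z) = LocRes.D F g := by
    rw [map_sub, LocRes.D_apply F (HahnSeries.C _), LocRes.derivative_C, sub_zero]
  have h1 : coefDer δ (HahnSeries.C a) = c * LocRes.D F g - coefDer δ g := by
    rw [← hDg, ← h0, map_sub, sub_sub_cancel]
  have h2 : Valued.v (coefDer δ (HahnSeries.C a)) ≤ exp (-(1 : ℤ)) := by
    rw [h1]
    refine Valuation.map_sub_le _ ?_ ((coefDer_small δ hz).trans (exp_le_exp.mpr (by push_cast; omega)))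
    rw [map_mul]
    refine (mul_le_mul' hm (D_small hz)).trans ?_
    rw [← exp_add, exp_le_exp]
    push_cast
    omega
  have h3 := (LaurentSeries.valuation_le_iff_coeff_lt_eq_zero F).mp h2 0 one_pos
  rw [coefDer_coeff, HahnSeries.C_apply, HahnSeries.coeff_single_same] at h3
  exact ha h3

/-- A separable coefficient field forces a separating element. -/
theorem exists_isSep_of_expansion [FiniteDimensional k F] [Algebra.IsSeparable k F]
    (hK : FunFld.IsFunctionField k K) (hφ : LocRes.IsExpansionAt P.1 φ) :
    ∃ x₀ : K, Hasse.Separable.IsSep k x₀ := by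
  classical
  obtain _ | ⟨p, hp, hpk⟩ := CharP.exists' k
  · exact Hasse.Separable.exists_isSep hK
  have : ExpChar k p := .prime hp.out
  have : CharP F p := charP_of_injective_algebraMap (algebraMap k F).injective p
  have : ExpChar F p := .prime hp.out
  have := Hasse.Separable.essFiniteType hK
  refine Hasse.Separable.exists_isSep_of_basis hK
    (exists_isTranscendenceBasis_and_isSeparable_of_linearIndepOn_pow_of_essFiniteType p hp.out
      fun s hs => linearIndepOn_finset_iff.mpr fun c hc i hi => ?_)
  obtain ⟨t, ht⟩ := hφ.2.2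
  have ht0 : t ≠ 0 := fun h => by rw [h, map_zero] at ht; exact exp_ne_zero ht.symm
  set N := ∑ j ∈ s, (log (P.1 j)).natAbs
  have hint : ∀ j : s, ∃ q : PowerSeries F, (q : LaurentSeries F) = φ (t ^ N * j) := fun j => by
    refine (LaurentSeries.val_le_one_iff_eq_coe F _).mp ((hφ.1 _).trans_le ?_)
    rw [map_mul, map_pow, ht, ← exp_nsmul, nsmul_eq_mul, mul_neg, mul_one]
    rcases eq_or_ne (P.1 (j : K)) 0 with h | h
    · rw [h, mul_zero]; exact zero_le
    · rw [← exp_log h, ← exp_add]
      refine le_of_le_of_eq ?_ exp_zero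
      rw [exp_le_exp]
      have : (log (P.1 (j : K))).natAbs ≤ N :=
        Finset.single_le_sum (f := fun j : K => (log (P.1 j)).natAbs) (fun _ _ => Nat.zero_le _) j.2
      omega
  choose q hq using hint
  have hsum : ∑ j : s, c j • q j ^ p = 0 := by
    refine HahnSeries.ofPowerSeries_injective (Γ := ℤ) ?_
    rw [map_sum, map_zero]
    calc ∑ j : s, HahnSeries.ofPowerSeries ℤ F (c j • q j ^ p)
        = ∑ j : s, φ (t ^ (N * p) * (c j • (j : K) ^ p)) := Finset.sum_congr rfl fun j _ => by
          rw [Algebra.smul_def, PowerSeries.algebraMap_apply, map_mul, HahnSeries.ofPowerSeries_C,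
            map_pow, hq, Algebra.smul_def, map_mul φ, map_mul φ, map_mul φ, LocRes.map_algebraMap,
            map_pow, map_pow, map_pow]
          ring
      _ = 0 := by
          rw [← map_sum, ← Finset.mul_sum, Finset.sum_coe_sort s fun j => c j • j ^ p, hc, mul_zero,
            map_zero]
  let b := Module.finBasis k F
  have hb := b.linearIndependent.map_pow_expChar_pow_of_isSeparable p 1
  have hlam : ∀ (n : ℕ) (l : Fin (Module.finrank k F)),
      ∑ j : s, c j * b.repr (PowerSeries.coeff n (q j)) l ^ p = 0 := by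
    intro n
    refine Fintype.linearIndependent_iff.mp hb _ ?_
    have hn := congrArg (PowerSeries.coeff (p * n)) hsum
    simp only [map_sum, map_zero, PowerSeries.coeff_smul] at hn
    refine Eq.trans ?_ hn
    simp only [pow_one, Finset.sum_smul]
    rw [Finset.sum_comm]
    refine Finset.sum_congr rfl fun j _ => ?_
    have hmf : PowerSeries.map (frobenius F p) ((q j).expand p hp.out.ne_zero) = q j ^ p :=
      MvPowerSeries.map_frobenius_expand p hp.out.ne_zero
    conv_rhs => rw [← hmf, PowerSeries.coeff_map,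
      PowerSeries.coeff_expand_mul, frobenius_def, ← b.sum_repr (PowerSeries.coeff n (q j)),
      sum_pow_char p, Finset.smul_sum]
    exact Finset.sum_congr rfl fun l _ => by rw [smul_pow, smul_smul]
  choose r hr using fun j : s => IsAlgClosed.exists_pow_nat_eq
    (algebraMap k (AlgebraicClosure k) (c j)) hp.out.pos
  have : ExpChar (AlgebraicClosure k) p := expChar_of_injective_algebraMap (algebraMap k _).injective p
  have hr0 : ∀ (n : ℕ) (l : Fin (Module.finrank k F)),
      ∑ j : s, b.repr (PowerSeries.coeff n (q j)) l • r j = 0 := fun n l => by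
    refine (pow_eq_zero_iff hp.out.ne_zero).mp ?_
    rw [sum_pow_char p]
    calc ∑ j : s, (b.repr (PowerSeries.coeff n (q j)) l • r j) ^ p
        = algebraMap k (AlgebraicClosure k) (∑ j : s, c j * b.repr (PowerSeries.coeff n (q j)) l ^ p) := by
          rw [map_sum]
          exact Finset.sum_congr rfl fun j _ => by
            rw [smul_pow, hr, Algebra.smul_def, map_mul, map_pow, mul_comm]
      _ = 0 := by rw [hlam n l, map_zero]
  have hri : r ⟨i, hi⟩ = 0 := (Module.forall_dual_apply_eq_zero_iff k _).mp fun g => by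
    have hg : ∑ j : s, g (r j) • q j = 0 := by
      ext n
      refine b.repr.injective (Finsupp.ext fun l => ?_)
      simp only [map_sum, PowerSeries.coeff_smul, map_zero, map_smul, Finsupp.coe_finsetSum,
        Finset.sum_apply, Finsupp.smul_apply, smul_eq_mul, Finsupp.coe_zero, Pi.zero_apply]
      calc ∑ j : s, g (r j) * b.repr (PowerSeries.coeff n (q j)) l
          = g (∑ j : s, b.repr (PowerSeries.coeff n (q j)) l • r j) := by
            simp [map_sum, mul_comm]
        _ = 0 := by rw [hr0, map_zero]
    have h1 : φ (t ^ N * ∑ j : s, g (r j) • (j : K)) = 0 := by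
      rw [Finset.mul_sum, map_sum, ← map_zero (HahnSeries.ofPowerSeries ℤ F), ← hg, map_sum]
      refine Finset.sum_congr rfl fun j _ => ?_
      rw [mul_smul_comm, Algebra.smul_def, map_mul φ, LocRes.map_algebraMap, ← hq, Algebra.smul_def,
        PowerSeries.algebraMap_apply, map_mul, HahnSeries.ofPowerSeries_C]
    rw [map_eq_zero, mul_eq_zero, or_iff_right (pow_ne_zero _ ht0)] at h1
    exact Fintype.linearIndependent_iff.mp hs.linearIndependent _ h1 ⟨i, hi⟩
  have := hr ⟨i, hi⟩
  rw [hri, zero_pow hp.out.ne_zero, eq_comm, map_eq_zero] at this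
  exact this

/-- Either there is a separating element, or all traced residues vanish. -/
theorem locRes_eq_zero [FiniteDimensional k F] (hK : FunFld.IsFunctionField k K)
    (hsep : ¬ ∃ x₀ : K, Hasse.Separable.IsSep k x₀) (hφ : LocRes.IsExpansionAt P.1 φ) (u v : K) :
    LocRes.locRes φ u v = 0 := by
  rw [LocRes.locRes, Algebra.trace_eq_zero_of_not_isSeparable
    (fun h => hsep (exists_isSep_of_expansion hK hφ)), LinearMap.zero_apply]

end Groth.Agent.Lib.FunFld.Res.SepRes
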