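import Groth.Agent.Lib.FunFld.Hasse.Residue
import Mathlib.FieldTheory.IsAlgClosed.Basic
import Mathlib.Algebra.Polynomial.Taylor

/-! The residue theorem on the projective line over an algebraically closed field. -/

namespace Groth.Agent.Lib.FunFld.Res.RationalSum

open Polynomial

universe u
variable {L : Type u} [Field L]

/-- Evaluation of a polynomial at a Laurent series. -/
noncomputable def ev (z : LaurentSeries L) : L[X] →+* LaurentSeries L :=
  Polynomial.eval₂RingHom HahnSeries.C z

/-- The local coordinate at a finite point. -/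
noncomputable def zfin (a : L) : LaurentSeries L := HahnSeries.C a + HahnSeries.single 1 1

/-- The residue of `f / g · dX` at a finite point. -/
noncomputable def resFin (f g : L[X]) (a : L) : L :=
  (ev (zfin a) f / ev (zfin a) g * LocRes.D L (zfin a)).coeff (-1)

/-- The residue of `f / g · dX` at infinity. -/
noncomputable def resInf (f g : L[X]) : L :=
  (ev (HahnSeries.single (-1 : ℤ) 1) f / ev (HahnSeries.single (-1 : ℤ) 1) g *
    LocRes.D L (HahnSeries.single (-1 : ℤ) (1 : L))).coeff (-1)

theorem D_zfin (a : L) : LocRes.D L (zfin a) = 1 := by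
  rw [zfin, map_add, LocRes.D_apply L (HahnSeries.C a), LocRes.derivative_C, zero_add, ← HahnSeries.ofPowerSeries_X,
    LocRes.D_coe, PowerSeries.derivative_X, PowerSeries.coe_one]

theorem D_inf : LocRes.D L (HahnSeries.single (-1 : ℤ) (1 : L)) = - HahnSeries.single (-2 : ℤ) 1 := by
  ext n
  rw [LocRes.D_coeff, HahnSeries.coeff_neg]
  rcases eq_or_ne n (-2) with rfl | hn
  · norm_num [HahnSeries.coeff_single_same]
  · rw [HahnSeries.coeff_single_of_ne hn, HahnSeries.coeff_single_of_ne (by omega), smul_zero,
      neg_zero]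

theorem ev_zfin_coe (a : L) (p : L[X]) :
    ev (zfin a) p = ((Polynomial.taylor a p : PowerSeries L) : LaurentSeries L) := by
  induction p using Polynomial.induction_on' with
  | add p q hp hq => rw [map_add, map_add, hp, hq, Polynomial.coe_add, PowerSeries.coe_add]
  | monomial m c =>
    rw [Polynomial.taylor_apply, Polynomial.monomial_comp, Polynomial.coe_mul, Polynomial.coe_C,
      Polynomial.coe_pow, Polynomial.coe_add, Polynomial.coe_X, Polynomial.coe_C, PowerSeries.coe_mul,
      PowerSeries.coe_pow, PowerSeries.coe_add, HahnSeries.ofPowerSeries_C, HahnSeries.ofPowerSeries_C,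
      HahnSeries.ofPowerSeries_X, ev, Polynomial.coe_eval₂RingHom, Polynomial.eval₂_monomial, zfin,
      add_comm (HahnSeries.C a)]

theorem ev_ne_zero {z : LaurentSeries L} (hz : ∀ p : L[X], p ≠ 0 → ev z p ≠ 0) {p : L[X]}
    (hp : p ≠ 0) : ev z p ≠ 0 := hz p hp

theorem ev_zfin_ne_zero (a : L) {p : L[X]} (hp : p ≠ 0) : ev (zfin a) p ≠ 0 := by
  rw [ev_zfin_coe]
  intro h
  have h1 := HahnSeries.ofPowerSeries_injective (h.trans (map_zero _).symm)
  exact hp (Polynomial.taylor_injective a ((Polynomial.coe_eq_zero_iff.mp h1).trans (map_zero _).symm))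

theorem ev_inf_ne_zero {p : L[X]} (hp : p ≠ 0) :
    ev (HahnSeries.single (-1 : ℤ) (1 : L)) p ≠ 0 := fun h => by
  have h1 := congrArg (fun x : LaurentSeries L => x.coeff (-(p.natDegree : ℤ))) h
  simp only [ev, Polynomial.coe_eval₂RingHom, Polynomial.eval₂_eq_sum_range, HahnSeries.coeff_sum,
    HahnSeries.coeff_zero] at h1
  rw [Finset.sum_eq_single p.natDegree] at h1
  · rw [HahnSeries.single_pow, one_pow, HahnSeries.C_mul_eq_smul, HahnSeries.coeff_smul,
      nsmul_eq_mul, mul_neg, mul_one, HahnSeries.coeff_single_same, smul_eq_mul, mul_one] at h1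
    exact hp (Polynomial.leadingCoeff_eq_zero.mp h1)
  · intro i _ hi
    rw [HahnSeries.single_pow, one_pow, HahnSeries.C_mul_eq_smul, HahnSeries.coeff_smul,
      nsmul_eq_mul, mul_neg, mul_one, HahnSeries.coeff_single_of_ne (by omega), smul_zero]
  · simp

/-- Regular points have no residue. -/
theorem resFin_of_eval_ne_zero (f g : L[X]) {a : L} (hg : g.eval a ≠ 0) : resFin f g a = 0 := by
  have hu : IsUnit ((Polynomial.taylor a g : PowerSeries L)) := by
    refine PowerSeries.isUnit_iff_constantCoeff.mpr (isUnit_iff_ne_zero.mpr ?_)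
    rw [← PowerSeries.coeff_zero_eq_constantCoeff_apply, Polynomial.coeff_coe,
      Polynomial.taylor_coeff_zero]
    exact hg
  obtain ⟨w, hw⟩ := hu
  rw [resFin, D_zfin, mul_one, ev_zfin_coe, ev_zfin_coe, ← hw, div_eq_mul_inv,
    ← eq_inv_of_mul_eq_one_left (show ((↑w⁻¹ : PowerSeries L) : LaurentSeries L) *
      ((w : PowerSeries L) : LaurentSeries L) = 1 by
      rw [← PowerSeries.coe_mul, Units.inv_mul, PowerSeries.coe_one]),
    ← PowerSeries.coe_mul, PowerSeries.coeff_coe, if_pos (by norm_num)]

/-- The total residue at a finite set and infinity. -/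
noncomputable def tot (S : Finset L) (f g : L[X]) : L := ∑ a ∈ S, resFin f g a + resInf f g

theorem tot_add (S : Finset L) (f f' g : L[X]) : tot S (f + f') g = tot S f g + tot S f' g := by
  simp only [tot, resFin, resInf, map_add, add_div, add_mul, HahnSeries.coeff_add,
    Finset.sum_add_distrib]
  ring

theorem tot_smul (S : Finset L) (c : L) (f g : L[X]) :
    tot S (Polynomial.C c * f) g = c * tot S f g := by
  have hC : ∀ z : LaurentSeries L, ev z (Polynomial.C c) = HahnSeries.C c := fun z =>
    Polynomial.eval₂_C _ _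
  simp only [tot, resFin, resInf, map_mul, hC, mul_div_assoc]
  simp only [mul_assoc]
  simp only [HahnSeries.C_mul_eq_smul, HahnSeries.coeff_smul, smul_eq_mul, Finset.mul_sum, mul_add]

theorem tot_cancel (S : Finset L) (f g : L[X]) {h : L[X]} (hh : h ≠ 0) :
    tot S (f * h) (g * h) = tot S f g := by
  simp only [tot, resFin, resInf, map_mul]
  rw [mul_div_mul_right _ _ (ev_inf_ne_zero hh),
    Finset.sum_congr rfl fun a _ => by rw [mul_div_mul_right _ _ (ev_zfin_ne_zero a hh)]]

theorem res_single_shift {m : ℤ} :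
    (HahnSeries.single m (1 : L)).coeff (-1) = if m = -1 then 1 else 0 := by
  rw [HahnSeries.coeff_single]
  exact ite_congr (propext eq_comm) (fun _ => rfl) fun _ => rfl

theorem ev_inf_linear (b : L) :
    ev (HahnSeries.single (-1 : ℤ) 1) (Polynomial.X - Polynomial.C b) =
      HahnSeries.single (-1 : ℤ) 1 * ((1 - PowerSeries.C b * PowerSeries.X : PowerSeries L) : LaurentSeries L) := by
  rw [map_sub, ev, Polynomial.coe_eval₂RingHom, Polynomial.eval₂_X, Polynomial.eval₂_C,
    PowerSeries.coe_sub, PowerSeries.coe_one, PowerSeries.coe_mul, HahnSeries.ofPowerSeries_C,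
    HahnSeries.ofPowerSeries_X, mul_sub, mul_one, mul_left_comm, HahnSeries.single_mul_single,
    neg_add_cancel, one_mul]
  rw [show (HahnSeries.single (0 : ℤ)) (1 : L) = 1 from rfl, mul_one]

/-- Monomials at one point. -/
theorem tot_pow_div {S : Finset L} {b : L} (hb : b ∈ S) (j m : ℕ) :
    tot S ((Polynomial.X - Polynomial.C b) ^ j) ((Polynomial.X - Polynomial.C b) ^ m) = 0 := by
  classical
  have hX : Polynomial.X - Polynomial.C b ≠ 0 := Polynomial.X_sub_C_ne_zero b
  have hfin : ∀ a ∈ S, resFin ((Polynomial.X - Polynomial.C b) ^ j)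
      ((Polynomial.X - Polynomial.C b) ^ m) a = if a = b then (if (j : ℤ) - m = -1 then 1 else 0) else 0 := by
    intro a _
    by_cases hab : a = b
    · subst hab
      rw [if_pos rfl, resFin, D_zfin, mul_one, map_pow, map_pow,
        show ev (zfin a) (Polynomial.X - Polynomial.C a) = HahnSeries.single 1 1 by
          simp [ev, zfin],
        HahnSeries.single_pow, HahnSeries.single_pow, one_pow, one_pow, div_eq_mul_inv,
        HahnSeries.inv_single, inv_one, HahnSeries.single_mul_single, one_mul, res_single_shift]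
      simp [sub_eq_add_neg]
    · rw [if_neg hab, resFin_of_eval_ne_zero]
      simp [sub_ne_zero.mpr hab]
  have hu : IsUnit (1 - PowerSeries.C b * PowerSeries.X : PowerSeries L) := by
    rw [PowerSeries.isUnit_iff_constantCoeff]; simp
  obtain ⟨w, hw⟩ := hu
  rw [tot, Finset.sum_congr rfl hfin, Finset.sum_ite_eq', if_pos hb, resInf, D_inf, map_pow, map_pow,
    ev_inf_linear, mul_neg, HahnSeries.coeff_neg, ← sub_eq_add_neg, sub_eq_zero]
  rcases le_or_gt m j with hmj | hmj
  · obtain ⟨i, rfl⟩ := Nat.exists_eq_add_of_le hmj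
    have hz : HahnSeries.single (-1 : ℤ) (1 : L) *
        ((1 - PowerSeries.C b * PowerSeries.X : PowerSeries L) : LaurentSeries L) ≠ 0 := by
      rw [← ev_inf_linear]; exact ev_inf_ne_zero hX
    rw [if_neg (by omega), pow_add, mul_div_cancel_left₀ _ (pow_ne_zero _ hz), mul_pow,
      HahnSeries.single_pow, one_pow, mul_right_comm, HahnSeries.single_mul_single, one_mul,
      ← PowerSeries.coe_pow, HahnSeries.coeff_single_mul, one_mul, PowerSeries.coeff_coe,
      if_neg (by simp)]
    symm
    have hd : ((1 - Polynomial.C b * Polynomial.X : L[X]) ^ i).natDegree ≤ i := by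
      refine Polynomial.natDegree_pow_le.trans ?_
      have : (1 - Polynomial.C b * Polynomial.X : L[X]).natDegree ≤ 1 :=
        (Polynomial.natDegree_sub_le _ _).trans (by
          simp only [Polynomial.natDegree_one, max_le_iff, zero_le, true_and]
          exact (Polynomial.natDegree_C_mul_le _ _).trans Polynomial.natDegree_X_le)
      calc i * _ ≤ i * 1 := Nat.mul_le_mul_left _ this
        _ = i := mul_one i
    rw [show (1 - PowerSeries.C b * PowerSeries.X : PowerSeries L) ^ i =
      (((1 - Polynomial.C b * Polynomial.X) ^ i : L[X]) : PowerSeries L) by simp]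
    rw [Polynomial.coeff_coe]
    refine Polynomial.coeff_eq_zero_of_natDegree_lt (hd.trans_lt ?_)
    simp
    omega
  · obtain ⟨i, rfl⟩ := Nat.exists_eq_add_of_lt hmj
    have hz : HahnSeries.single (-1 : ℤ) (1 : L) *
        ((1 - PowerSeries.C b * PowerSeries.X : PowerSeries L) : LaurentSeries L) ≠ 0 := by
      rw [← ev_inf_linear]; exact ev_inf_ne_zero hX
    rw [show j + i + 1 = j + (i + 1) from rfl, pow_add, div_mul_eq_div_div,
      div_self (pow_ne_zero _ hz), one_div, mul_pow, mul_inv, HahnSeries.single_pow, one_pow,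
      HahnSeries.inv_single, inv_one, mul_right_comm, HahnSeries.single_mul_single, one_mul,
      ← PowerSeries.coe_pow, ← hw, ← Units.val_pow_eq_pow_val,
      ← eq_inv_of_mul_eq_one_left (show (((w ^ (i + 1))⁻¹ : (PowerSeries L)ˣ) : PowerSeries L) *
        (((w ^ (i + 1) : (PowerSeries L)ˣ) : PowerSeries L) : LaurentSeries L) = 1 by
        rw [← PowerSeries.coe_mul, Units.inv_mul, PowerSeries.coe_one]),
      HahnSeries.coeff_single_mul, one_mul, PowerSeries.coeff_coe]
    simp only [nsmul_eq_mul, mul_neg, mul_one, neg_neg]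
    push_cast
    rcases Nat.eq_zero_or_pos i with rfl | hi
    · simp
      rw [hw]
      simp
    · rw [if_neg (by omega), if_pos (by omega)]

variable [IsAlgClosed L]

/-- The residue theorem on the line. -/
theorem tot_eq_zero (S : Finset L) {g : L[X]} (hg : g ≠ 0) (hS : ∀ a, g.IsRoot a → a ∈ S)
    (f : L[X]) : tot S f g = 0 := by
  classical
  induction hd : g.natDegree using Nat.strong_induction_on generalizing g f S with
  | _ N ih =>
  by_cases hroots : ∃ a, g.IsRoot a ∧ ∃ a', g.IsRoot a' ∧ a' ≠ a
  · obtain ⟨a, ha, a', ha', hne⟩ := hroots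
    obtain ⟨g₁, rfl⟩ := Polynomial.dvd_iff_isRoot.mpr ha
    have ha1 : g₁.IsRoot a' := by
      simpa [sub_ne_zero.mpr hne] using ha'
    obtain ⟨g₂, rfl⟩ := Polynomial.dvd_iff_isRoot.mpr ha1
    have hg₂ : g₂ ≠ 0 := right_ne_zero_of_mul (right_ne_zero_of_mul hg)
    have hdeg : N = g₂.natDegree + 2 := by
      rw [← hd, Polynomial.natDegree_mul (Polynomial.X_sub_C_ne_zero a) (right_ne_zero_of_mul hg),
        Polynomial.natDegree_mul (Polynomial.X_sub_C_ne_zero a') hg₂, Polynomial.natDegree_X_sub_C,
        Polynomial.natDegree_X_sub_C]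
      ring
    have hone : (1 : L[X]) = Polynomial.C (a' - a)⁻¹ * ((Polynomial.X - Polynomial.C a) - (Polynomial.X - Polynomial.C a')) := by
      rw [show (Polynomial.X - Polynomial.C a) - (Polynomial.X - Polynomial.C a') = Polynomial.C (a' - a) by
        rw [map_sub]; ring, ← map_mul, inv_mul_cancel₀ (sub_ne_zero.mpr hne), map_one]
    have hf : f = Polynomial.C (a' - a)⁻¹ * (f * (Polynomial.X - Polynomial.C a)) +
        Polynomial.C (-(a' - a)⁻¹) * (f * (Polynomial.X - Polynomial.C a')) := by
      rw [map_neg]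
      linear_combination f * hone
    rw [hf, tot_add, tot_smul, tot_smul,
      show (Polynomial.X - Polynomial.C a) * ((Polynomial.X - Polynomial.C a') * g₂) =
        (Polynomial.X - Polynomial.C a') * g₂ * (Polynomial.X - Polynomial.C a) by ring,
      tot_cancel _ _ _ (Polynomial.X_sub_C_ne_zero a),
      show (Polynomial.X - Polynomial.C a') * g₂ * (Polynomial.X - Polynomial.C a) =
        (Polynomial.X - Polynomial.C a) * g₂ * (Polynomial.X - Polynomial.C a') by ring,
      tot_cancel _ _ _ (Polynomial.X_sub_C_ne_zero a'),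
      ih (g₂.natDegree + 1) (by omega) S (mul_ne_zero (Polynomial.X_sub_C_ne_zero a') hg₂)
        (fun b hb => hS b (by simp only [Polynomial.IsRoot.def, Polynomial.eval_mul] at hb ⊢; rw [hb, mul_zero]))
        f (by rw [Polynomial.natDegree_mul (Polynomial.X_sub_C_ne_zero a') hg₂, Polynomial.natDegree_X_sub_C, add_comm]),
      ih (g₂.natDegree + 1) (by omega) S (mul_ne_zero (Polynomial.X_sub_C_ne_zero a) hg₂)
        (fun b hb => hS b (by
          simp only [Polynomial.IsRoot.def, Polynomial.eval_mul, mul_eq_zero] at hb ⊢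
          rcases hb with hb | hb
          exacts [Or.inl hb, Or.inr (Or.inr hb)]))
        f (by rw [Polynomial.natDegree_mul (Polynomial.X_sub_C_ne_zero a) hg₂, Polynomial.natDegree_X_sub_C, add_comm]),
      mul_zero, mul_zero, add_zero]
  · push Not at hroots
    obtain ⟨b, m, c, hb, hgb⟩ : ∃ b m c, (0 < m → g.IsRoot b) ∧
        g = Polynomial.C c * (Polynomial.X - Polynomial.C b) ^ m := by
      have hsplit := IsAlgClosed.splits g
      rcases Multiset.empty_or_exists_mem g.roots with h0 | ⟨b, hb⟩
      · refine ⟨0, 0, g.leadingCoeff, fun h => absurd h (lt_irrefl 0), ?_⟩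
        conv_lhs => rw [hsplit.eq_prod_roots, h0]
        simp
      · have hroot := (Polynomial.mem_roots hg).mp hb
        refine ⟨b, g.roots.card, g.leadingCoeff, fun _ => hroot, ?_⟩
        conv_lhs => rw [hsplit.eq_prod_roots, Multiset.eq_replicate_card.mpr fun x hx =>
          hroots b hroot x ((Polynomial.mem_roots hg).mp hx)]
        simp
    have hc : c ≠ 0 := by
      rintro rfl
      simp [hgb] at hg
    -- a point in the set
    obtain ⟨b', S', hb', hSS', hgb'⟩ : ∃ b', ∃ S' : Finset L, b' ∈ S' ∧ tot S' f g = tot S f g ∧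
        g = Polynomial.C c * (Polynomial.X - Polynomial.C b') ^ m := by
      rcases Nat.eq_zero_or_pos m with rfl | hm
      · refine ⟨b, insert b S, Finset.mem_insert_self b S, ?_, hgb⟩
        rw [tot, tot]
        congr 1
        refine (Finset.sum_subset (Finset.subset_insert b S) fun x _ hx => ?_).symm
        refine resFin_of_eval_ne_zero f g ?_
        rw [hgb]
        simpa using hc
      · exact ⟨b, S, hS b (hb hm), rfl, hgb⟩
    rw [← hSS', hgb']
    rw [show f = (f.comp (Polynomial.X + Polynomial.C b')).comp (Polynomial.X - Polynomial.C b') by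
      simp [Polynomial.comp_assoc]]
    rw [Polynomial.comp_eq_sum_left]
    set p := f.comp (Polynomial.X + Polynomial.C b')
    rw [Polynomial.sum_def]
    induction p.support using Finset.induction with
    | empty =>
      simp only [Finset.sum_empty, tot, resFin, resInf, map_zero, zero_div, zero_mul,
        HahnSeries.coeff_zero, Finset.sum_const_zero, add_zero]
    | insert i s hi ih' =>
      rw [Finset.sum_insert hi, tot_add, ih', add_zero, tot_smul]
      rw [show (Polynomial.X - Polynomial.C b') ^ i =
          Polynomial.C c⁻¹ * ((Polynomial.X - Polynomial.C b') ^ i * Polynomial.C c) by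
        rw [mul_comm _ (Polynomial.C c), ← mul_assoc, ← map_mul, inv_mul_cancel₀ hc, map_one, one_mul],
        tot_smul, mul_comm (Polynomial.C c), tot_cancel _ _ _ (Polynomial.C_ne_zero.mpr hc),
        tot_pow_div hb', mul_zero, mul_zero]

end Groth.Agent.Lib.FunFld.Res.RationalSum
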