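import Groth.Agent.Lib.FunFld.Res.Local
import Mathlib.LinearAlgebra.StdBasis
import Mathlib.LinearAlgebra.Matrix.Determinant.Basic
import Mathlib.RingTheory.Trace.Basic
import Mathlib.LinearAlgebra.Dimension.OrzechProperty

/-! The semilocal trace formula. -/

namespace Groth.Agent.Lib.FunFld.Res.TraceFormula

open PowerSeries WithZero
open Groth.Agent.Lib.FunFld.Res
open Groth.Agent.Lib.FunFld.Res.Local

universe u v w z
variable {L : Type v} [Field L] {E : Type u} {K : Type w} [Field E] [Field K] [Algebra E K]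
  {J : Type z} [Fintype J] (d : J → Dat L) (φ₀ : E →+* LaurentSeries L)
  (χ : J → K →+* LaurentSeries L)

/-- The product of the covers. -/
abbrev Pr : Type (max z v) := ∀ j, CovL (d j)

/-- The semilocal embedding. -/
noncomputable def theta : K →+* Pr d :=
  RingHom.pi fun j => (mk (d j)).toRingHom.comp (χ j)

omit [Fintype J] in
theorem theta_apply (y : K) (j : J) : theta d χ y j = mk (d j) (χ j y) := rfl

/-- The span of the image. -/
noncomputable def W : Submodule (LaurentSeries L) (Pr d) :=
  Submodule.span (LaurentSeries L) (Set.range (theta d χ))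

variable {d φ₀ χ}

omit [Fintype J] in
theorem theta_smul (hc : ∀ j a, χ j (algebraMap E K a) = σL (d j) (φ₀ a)) (a : E) (y : K) :
    theta d χ (a • y) = φ₀ a • theta d χ y := by
  funext j
  rw [Pi.smul_apply, theta_apply, theta_apply, Algebra.smul_def, map_mul, map_mul, Local.smul_def,
    hc]

omit [Fintype J] in
theorem span_basis_eq_W (hc : ∀ j a, χ j (algebraMap E K a) = σL (d j) (φ₀ a)) {ι : Type*}
    [Fintype ι] (b : Module.Basis ι E K) :
    Submodule.span (LaurentSeries L) (Set.range (theta d χ ∘ b)) = W d χ := by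
  refine le_antisymm (Submodule.span_mono (Set.range_comp_subset_range b (theta d χ)))
    (Submodule.span_le.mpr ?_)
  rintro _ ⟨y, rfl⟩
  rw [← b.sum_repr y, map_sum]
  exact sum_mem fun i _ => by
    rw [theta_smul hc]
    exact Submodule.smul_mem _ _ (Submodule.subset_span ⟨i, rfl⟩)

theorem exists_coord_small {d : Dat L} {g : LaurentSeries L} (hg : Valued.v g ≤ exp (-(d.e : ℤ)))
    (r : Fin d.e) : ∃ p : PowerSeries L,
      (basis d).repr (mk d g) r = ((X * p : PowerSeries L) : LaurentSeries L) := by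
  obtain ⟨q, hq⟩ : ∃ q : PowerSeries L, (q : LaurentSeries L) = (param d)⁻¹ * g := by
    refine (LaurentSeries.val_le_one_iff_eq_coe L _).mp ?_
    have hv : Valued.v (param d) = exp (-(d.e : ℤ)) := by
      rw [param_eq, map_mul, LaurentSeries.valuation_single_zpow]
      have h1 : ∀ w : PowerSeries L, Valued.v (w : LaurentSeries L) ≤ 1 := fun w =>
        (LaurentSeries.val_le_one_iff_eq_coe L _).mpr ⟨w, rfl⟩
      have : Valued.v ((d.u : PowerSeries L) : LaurentSeries L) = 1 := by
        refine le_antisymm (h1 _) ?_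
        have := mul_le_mul_right (h1 (↑d.u⁻¹)) (Valued.v ((d.u : PowerSeries L) : LaurentSeries L))
        rwa [← map_mul, ← PowerSeries.coe_mul, Units.mul_inv, PowerSeries.coe_one, map_one,
          mul_one] at this
      rw [this, mul_one]
    rw [map_mul, map_inv₀, hv]
    exact (mul_le_mul_right hg _).trans_eq (inv_mul_cancel₀ exp_ne_zero)
  have hg' : g = σL d ((X : PowerSeries L) : LaurentSeries L) * (q : LaurentSeries L) := by
    rw [HahnSeries.ofPowerSeries_X, hq, show (1 : ℤ) = ((1 : ℕ) : ℤ) from rfl, σL_single, pow_one,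
      mul_inv_cancel_left₀ (param_ne_zero d)]
  refine ⟨Cover.coord d.e d.u q r, ?_⟩
  rw [hg', map_mul, ← Local.smul_def, map_smul, Finsupp.smul_apply, repr_coe, smul_eq_mul,
    PowerSeries.coe_mul]

theorem W_eq_top (hdense : ∀ (j : J) (r : Fin (d j).e) (N : ℕ), ∃ w ∈ W d χ, ∀ j',
      Valued.v ((mk (d j')).symm (w j') -
        (mk (d j')).symm ((Pi.basis fun i => basis (d i)) ⟨j, r⟩ j')) ≤ exp (-(N : ℤ))) :
    W d χ = ⊤ := by
  classical
  choose w hw hwv using fun jr : Σ j, Fin (d j).e => hdense jr.1 jr.2 (Finset.univ.sup fun j => (d j).e)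
  let B := Pi.basis fun i => basis (d i)
  have hsmall : ∀ a b, ∃ p : PowerSeries L, B.repr (w b) a =
      (((if a = b then 1 else 0) + X * p : PowerSeries L) : LaurentSeries L) := by
    intro a b
    obtain ⟨i, r⟩ := a
    set g := (mk (d i)).symm (w b i) - (mk (d i)).symm (B b i)
    have hg : Valued.v g ≤ exp (-((d i).e : ℤ)) :=
      (hwv b i).trans (exp_le_exp.mpr (neg_le_neg (Int.ofNat_le.mpr
        (Finset.le_sup (f := fun j => (d j).e) (Finset.mem_univ i)))))
    obtain ⟨p, hp⟩ := exists_coord_small hg r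
    refine ⟨p, ?_⟩
    have h1 : mk (d i) g = (w b - B b) i := by
      rw [map_sub, RingEquiv.apply_symm_apply, RingEquiv.apply_symm_apply]; rfl
    rw [h1] at hp
    have h2 : B.repr (w b - B b) ⟨i, r⟩ = ((X * p : PowerSeries L) : LaurentSeries L) := by
      rw [← hp]; exact Pi.basis_repr _ _ _
    rw [map_sub, Finsupp.sub_apply, Module.Basis.repr_self, sub_eq_iff_eq_add,
      Finsupp.single_apply] at h2
    rw [h2, PowerSeries.coe_add, add_comm]
    by_cases h : (⟨i, r⟩ : Σ j, Fin (d j).e) = b
    · rw [if_pos h, if_pos h.symm, PowerSeries.coe_one]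
    · rw [if_neg h, if_neg (Ne.symm h), map_zero]
  choose p hp using hsmall
  let P : Matrix (Σ j, Fin (d j).e) (Σ j, Fin (d j).e) (PowerSeries L) :=
    Matrix.of fun a b => (if a = b then 1 else 0) + X * p a b
  have hdet : B.det w ≠ 0 := by
    rw [Module.Basis.det_apply, show B.toMatrix w = (HahnSeries.ofPowerSeries ℤ L).mapMatrix P from
      Matrix.ext fun a b => hp a b, ← RingHom.map_det]
    intro h
    have h2 := congrArg constantCoeff (HahnSeries.ofPowerSeries_injective (h.trans (map_zero _).symm))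
    rw [RingHom.map_det, map_zero, show constantCoeff.mapMatrix P = 1 from Matrix.ext fun a b => by
      simp [P, Matrix.one_apply, apply_ite constantCoeff], Matrix.det_one] at h2
    exact one_ne_zero h2
  obtain ⟨-, hspan⟩ := B.is_basis_iff_det.mpr (isUnit_iff_ne_zero.mpr hdet)
  refine eq_top_iff.mpr (hspan ▸ Submodule.span_le.mpr ?_)
  rintro _ ⟨b, rfl⟩
  exact hw b

theorem finrank_Pr : Module.finrank (LaurentSeries L) (Pr d) = ∑ j, (d j).e := by
  classical
  rw [Module.finrank_eq_card_basis (Pi.basis fun i => basis (d i))]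
  simp [Fintype.card_sigma]

theorem sum_le [FiniteDimensional E K] (hc : ∀ j a, χ j (algebraMap E K a) = σL (d j) (φ₀ a))
    (hW : W d χ = ⊤) : ∑ j, (d j).e ≤ Module.finrank E K := by
  let b := Module.finBasis E K
  rw [← finrank_Pr (d := d), ← finrank_top (LaurentSeries L) (Pr d), ← hW, ← span_basis_eq_W hc b]
  exact (finrank_range_le_card _).trans_eq (Fintype.card_fin _)

/-- The trace of `K` over `E` is the sum of the local traces. -/
theorem trace_eq [FiniteDimensional E K] (hc : ∀ j a, χ j (algebraMap E K a) = σL (d j) (φ₀ a))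
    (hW : W d χ = ⊤) (hn : ∑ j, (d j).e = Module.finrank E K) (y : K) :
    φ₀ (Algebra.trace E K y) =
      ∑ j, Algebra.trace (LaurentSeries L) (CovL (d j)) (mk (d j) (χ j y)) := by
  classical
  let b := Module.finBasis E K
  have htop : ⊤ ≤ Submodule.span (LaurentSeries L) (Set.range (theta d χ ∘ b)) := by
    rw [span_basis_eq_W hc b, hW]
  let B := basisOfTopLeSpanOfCardEqFinrank (theta d χ ∘ b) htop (by
    rw [Fintype.card_fin, finrank_Pr, hn])
  have hB : ∀ i, B i = theta d χ (b i) := fun i => by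
    rw [coe_basisOfTopLeSpanOfCardEqFinrank]; rfl
  have hrepr : ∀ z i, B.repr (theta d χ z) i = φ₀ (b.repr z i) := by
    intro z i
    conv_lhs => rw [← b.sum_repr z, map_sum]
    simp only [theta_smul hc, ← hB]
    rw [B.repr_sum_self]
  have h1 : Algebra.trace (LaurentSeries L) (Pr d) (theta d χ y) = φ₀ (Algebra.trace E K y) := by
    rw [Algebra.trace_eq_matrix_trace B, Algebra.trace_eq_matrix_trace b, Matrix.trace, Matrix.trace,
      map_sum]
    refine Finset.sum_congr rfl fun i _ => ?_
    rw [Matrix.diag_apply, Matrix.diag_apply, Algebra.leftMulMatrix_eq_repr_mul,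
      Algebra.leftMulMatrix_eq_repr_mul, hB, ← map_mul, hrepr]
  rw [← h1, Algebra.trace_eq_matrix_trace (Pi.basis fun i => basis (d i)), Matrix.trace,
    ← Finset.univ_sigma_univ, Finset.sum_sigma]
  refine Finset.sum_congr rfl fun j _ => ?_
  rw [Algebra.trace_eq_matrix_trace (basis (d j)), Matrix.trace]
  refine Finset.sum_congr rfl fun r _ => ?_
  rw [Matrix.diag_apply, Matrix.diag_apply, Algebra.leftMulMatrix_eq_repr_mul,
    Algebra.leftMulMatrix_eq_repr_mul, Pi.basis_apply, Pi.basis_repr]
  congr 1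
  rw [Pi.mul_apply, Pi.single_eq_same, theta_apply]

/-- The residue formula. -/
theorem res_eq [FiniteDimensional E K] (hc : ∀ j a, χ j (algebraMap E K a) = σL (d j) (φ₀ a))
    (hW : W d χ = ⊤) (hn : ∑ j, (d j).e = Module.finrank E K) (y : K) (a : E) :
    ∑ j, (χ j y * LocRes.D L (χ j (algebraMap E K a))).coeff (-1) =
      (φ₀ (Algebra.trace E K y) * LocRes.D L (φ₀ a)).coeff (-1) := by
  rw [trace_eq hc hW hn, Finset.sum_mul, HahnSeries.coeff_sum]
  refine Finset.sum_congr rfl fun j _ => ?_
  rw [hc, res_trace]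

end Groth.Agent.Lib.FunFld.Res.TraceFormula
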