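import Groth.Agent.Lib.FunFld.Res.Coef
import Groth.Agent.Lib.FunFld.Res.RationalSum
import Groth.Agent.Lib.FunFld.Res.TraceFormula
import Groth.Agent.Lib.FunFld.Degree
import Mathlib.FieldTheory.PrimitiveElement
import Mathlib.FieldTheory.Fixed

/-! The residue theorem for function fields with separable residue fields. -/

namespace Groth.Agent.Lib.FunFld.Res.Global

open WithZero IntermediateField
open Groth.Agent.Lib.FunFld.Res

universe u v w
variable {k : Type u} {K : Type v} [Field k] [Field K] [Algebra k K]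
variable {F : _root_.FunFld.Place k K → Type w} [∀ P, Field (F P)] [∀ P, Algebra k (F P)]
  [∀ P, FiniteDimensional k (F P)] [∀ P, Algebra.IsSeparable k (F P)]
variable (φ : ∀ P, K →ₐ[k] LaurentSeries (F P))

local notation "Lk" => AlgebraicClosure k

/-- A place with a geometric point over it. -/
abbrev Pt (F : _root_.FunFld.Place k K → Type w) [∀ P, Field (F P)] [∀ P, Algebra k (F P)] :=
  Σ P, (F P →ₐ[k] AlgebraicClosure k)

/-- The expansion at a geometric point. -/
noncomputable def chi (j : Pt F) : K →+* LaurentSeries Lk :=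
  (Coef.mapL j.2.toRingHom).comp (φ j.1).toRingHom

omit [∀ P, FiniteDimensional k (F P)] [∀ P, Algebra.IsSeparable k (F P)] in
theorem chi_apply (j : Pt F) (z : K) : chi φ j z = Coef.mapL j.2.toRingHom (φ j.1 z) := rfl

omit [∀ P, FiniteDimensional k (F P)] [∀ P, Algebra.IsSeparable k (F P)] in
theorem chi_algebraMap (j : Pt F) (c : k) :
    chi φ j (algebraMap k K c) = HahnSeries.C (algebraMap k Lk c) := by
  rw [chi_apply, LocRes.map_algebraMap, Coef.mapL_C]
  exact congrArg _ (j.2.commutes c)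

omit [∀ P, FiniteDimensional k (F P)] [∀ P, Algebra.IsSeparable k (F P)] in
theorem chi_aeval (j : Pt F) (x : K) (p : Polynomial k) :
    chi φ j (Polynomial.aeval x p) = RationalSum.ev (chi φ j x) (p.map (algebraMap k Lk)) := by
  rw [Polynomial.aeval_def, Polynomial.hom_eval₂, RationalSum.ev, Polynomial.coe_eval₂RingHom,
    Polynomial.eval₂_map]
  congr 1
  exact RingHom.ext fun c => chi_algebraMap φ j c

variable (hφ : ∀ P : _root_.FunFld.Place k K, LocRes.IsExpansionAt P.1 (φ P))
include hφ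

omit [∀ P, FiniteDimensional k (F P)] [∀ P, Algebra.IsSeparable k (F P)] in
theorem val_chi (j : Pt F) (z : K) : Valued.v (chi φ j z) = j.1.1 z := by
  rw [chi_apply, Coef.val_mapL, (hφ j.1).1]

variable {x : K}

omit [∀ P, Algebra.IsSeparable k (F P)] in
/-- The density of the global field in a finite product of local fields. -/
theorem W_eq_top {J : Type*} [Fintype J] (π : J → Pt F) (hπ : Function.Injective π)
    (d : J → Local.Dat Lk) :
    TraceFormula.W d (fun j => chi φ (π j)) = ⊤ := by
  classical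
  refine TraceFormula.W_eq_top fun j r N => ?_
  set W := TraceFormula.W d (fun j => chi φ (π j))
  -- the coefficient vectors at the place
  set P := (π j).1
  obtain ⟨c, hc⟩ : ∃ c : F P →₀ Lk,
      ∀ ι : F P →ₐ[k] Lk, (c.sum fun a l => l * ι a) = if ι = (π j).2 then 1 else 0 := by
    let Φ : F P → ((F P →ₐ[k] Lk) → Lk) := fun a ι => ι a
    have htop : Submodule.span Lk (Set.range Φ) = ⊤ := by
      by_contra hne
      obtain ⟨f, hf0, hf⟩ := Submodule.exists_le_ker_of_lt_top _ (lt_top_iff_ne_top.mpr hne)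
      have hfv : ∀ v : (F P →ₐ[k] Lk) → Lk, f v = ∑ ι, f (Pi.single ι 1) * v ι := fun v => by
        conv_lhs => rw [pi_eq_sum_univ' v]
        simp [mul_comm, map_sum]
      have hli := linearIndependent_toLinearMap k (F P) Lk
      have h0 := Fintype.linearIndependent_iff.mp hli (fun ι => f (Pi.single ι 1))
        (LinearMap.ext fun a => by
          have h := hf (Submodule.subset_span ⟨a, rfl⟩)
          rw [LinearMap.mem_ker, hfv] at h
          simpa [Φ] using h)
      exact hf0 (LinearMap.ext fun v => by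
        rw [hfv, LinearMap.zero_apply]
        exact Finset.sum_eq_zero fun ι _ => by rw [h0 ι, zero_mul])
    obtain ⟨c, hc⟩ := (Finsupp.mem_span_range_iff_exists_finsupp).mp
      (htop.symm ▸ Submodule.mem_top : Pi.single (π j).2 (1 : Lk) ∈ Submodule.span Lk (Set.range Φ))
    refine ⟨c, fun ι => ?_⟩
    have := congrFun hc ι
    rw [Pi.single_apply] at this
    simpa [Finsupp.sum, Φ] using this
  -- approximations
  choose a ha using fun b : F P =>
    Coef.exists_approx (hφ P) (PowerSeries.C b * PowerSeries.X ^ (r : ℕ)) N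
  have hz : ∀ b : F P, ∃ z : K, P.1 (z - a b) ≤ exp (-(N : ℤ)) ∧
      ∀ j', (π j').1 ≠ P → (π j').1.1 z ≤ exp (-(N : ℤ)) := fun b => by
    obtain ⟨z, hz⟩ := Approx.approximation (Finset.univ.image fun j' => (π j').1)
      (fun Q => if Q = P then a b else 0) (fun _ => -(N : ℤ))
    refine ⟨z, ?_, fun j' hj' => ?_⟩
    · have := hz P (Finset.mem_image.mpr ⟨j, Finset.mem_univ j, rfl⟩)
      rwa [if_pos rfl] at this
    · have := hz (π j').1 (Finset.mem_image.mpr ⟨j', Finset.mem_univ j', rfl⟩)
      rwa [if_neg hj', sub_zero] at this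
  choose z hz1 hz2 using hz
  refine ⟨∑ b ∈ c.support, (HahnSeries.C (c b) : LaurentSeries Lk) •
    TraceFormula.theta d (fun j => chi φ (π j)) (z b),
    sum_mem fun b _ => Submodule.smul_mem _ _ (Submodule.subset_span ⟨_, rfl⟩), fun j' => ?_⟩
  simp only [Finset.sum_apply, Pi.smul_apply, TraceFormula.theta_apply, Local.smul_def,
    Local.σL_C, ← map_mul, ← map_sum, RingEquiv.symm_apply_apply, Pi.basis_apply]
  have hlow : ∀ b, Valued.v (chi φ (π j') (z b) - (if (π j').1 = P then
      Coef.mapL (π j').2.toRingHom (φ (π j').1 (z b)) else 0)) ≤ exp (-(N : ℤ)) := fun b => by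
    split_ifs with h
    · rw [chi_apply, sub_self, map_zero]; exact zero_le
    · rw [sub_zero, val_chi φ hφ]; exact hz2 b j' h
  by_cases hP : (π j').1 = P
  · have hpair : ∃ ι : F P →ₐ[k] Lk, π j' = ⟨P, ι⟩ := by
      rcases hπj : π j' with ⟨Q, ι'⟩
      rw [hπj] at hP
      subst hP
      exact ⟨ι', rfl⟩
    obtain ⟨ι, hι⟩ := hpair
    have hδ : (Local.mk (d j')).symm ((Pi.single j ((Local.basis (d j)) r) : ∀ i, Local.CovL (d i)) j') =
        HahnSeries.C (if ι = (π j).2 then 1 else 0) * HahnSeries.single ((r : ℕ) : ℤ) (1 : Lk) := by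
      by_cases hj : j' = j
      · subst hj
        rw [Pi.single_eq_same, Local.basis_apply, RingEquiv.symm_apply_apply,
          if_pos (eq_of_heq (Sigma.mk.inj_iff.mp
            (hι.symm : (⟨P, ι⟩ : Pt F) = ⟨(π j').1, (π j').2⟩)).2), RingHom.map_one, one_mul]
      · rw [Pi.single_eq_of_ne hj, map_zero, if_neg, RingHom.map_zero, zero_mul]
        intro h
        exact hj (hπ (by rw [hι, h]))
    rw [hδ, ← hc ι, Finsupp.sum, map_sum, Finset.sum_mul, ← Finset.sum_sub_distrib]
    refine Valuation.map_sum_le _ fun b _ => ?_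
    rw [map_mul, mul_assoc, ← mul_sub, map_mul]
    have hC : Valued.v (HahnSeries.C (c b) : LaurentSeries Lk) ≤ 1 := by
      rw [← HahnSeries.ofPowerSeries_C]
      exact (LaurentSeries.val_le_one_iff_eq_coe _ _).mpr ⟨_, rfl⟩
    refine (mul_le_of_le_one_left zero_le hC).trans ?_
    rw [hι, chi_apply, show HahnSeries.C (ι b) * HahnSeries.single ((r : ℕ) : ℤ) (1 : Lk) =
        Coef.mapL ι.toRingHom ((PowerSeries.C b * PowerSeries.X ^ (r : ℕ) : PowerSeries (F P)) :
          LaurentSeries (F P)) by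
      rw [PowerSeries.coe_mul, HahnSeries.ofPowerSeries_C, HahnSeries.ofPowerSeries_X_pow, map_mul,
        Coef.mapL_C, Coef.mapL_single]
      rfl, ← map_sub, Coef.val_mapL]
    have := (ha b)
    calc Valued.v (φ P (z b) - _) = Valued.v ((φ P (z b) - φ P (a b)) +
          (φ P (a b) - ((PowerSeries.C b * PowerSeries.X ^ (r : ℕ) : PowerSeries (F P)) :
            LaurentSeries (F P)))) := by rw [sub_add_sub_cancel]
      _ ≤ _ := by
        refine Valuation.map_add_le _ ?_ this
        rw [← map_sub, (hφ P).1]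
        exact hz1 b
  · have hj : j' ≠ j := fun h => hP (h ▸ rfl)
    rw [Pi.single_eq_of_ne hj, map_zero, sub_zero]
    refine Valuation.map_sum_le _ fun b _ => ?_
    have hC : Valued.v (HahnSeries.C (c b) : LaurentSeries Lk) ≤ 1 := by
      rw [← HahnSeries.ofPowerSeries_C]
      exact (LaurentSeries.val_le_one_iff_eq_coe _ _).mpr ⟨_, rfl⟩
    rw [map_mul]
    refine (mul_le_of_le_one_left zero_le hC).trans ?_
    rw [val_chi φ hφ]
    exact hz2 b j' hP

omit hφ in
/-- The map of the rational subfield. -/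
theorem exists_phi (hx : Transcendental k x) {z₀ : LaurentSeries Lk}
    (hz₀ : ∀ p : Polynomial Lk, p ≠ 0 → RationalSum.ev z₀ p ≠ 0) :
    ∃ φ₀ : adjoin k ({x} : Set K) →+* LaurentSeries Lk,
      ∀ (p : Polynomial k) (a : adjoin k ({x} : Set K)), (a : K) = Polynomial.aeval x p →
        φ₀ a = RationalSum.ev z₀ (p.map (algebraMap k Lk)) := by
  set E := adjoin k ({x} : Set K)
  let gx : E := ⟨x, mem_adjoin_simple_self k x⟩
  let _ : Algebra (Polynomial k) E := (Polynomial.aeval gx).toRingHom.toAlgebra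
  have hmap : ∀ p : Polynomial k, ((algebraMap (Polynomial k) E p : E) : K) = Polynomial.aeval x p :=
    fun p => (Polynomial.aeval_algHom_apply (IntermediateField.val E) gx p).symm
  have : FaithfulSMul (Polynomial k) E := by
    rw [faithfulSMul_iff_algebraMap_injective]
    intro a b hab
    have := congrArg (Subtype.val : E → K) hab
    rw [hmap, hmap] at this
    exact transcendental_iff_injective.mp hx this
  have hfrac : IsFractionRing (Polynomial k) E :=
    IsFractionRing.of_field (R := Polynomial k) (K := E) fun z => by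
      obtain ⟨r, s, hrs⟩ := (IntermediateField.mem_adjoin_simple_iff k (z : K)).mp z.2
      exact ⟨r, s, Subtype.ext (by
        rw [show (((algebraMap (Polynomial k) E r) / (algebraMap (Polynomial k) E s) : E) : K) =
          ((algebraMap (Polynomial k) E r : E) : K) / ((algebraMap (Polynomial k) E s : E) : K) from
          rfl, hmap, hmap]
        exact hrs)⟩
  let g : Polynomial k →+* LaurentSeries Lk :=
    (RationalSum.ev z₀).comp (Polynomial.mapRingHom (algebraMap k Lk))
  have hg : Function.Injective g := by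
    rw [injective_iff_map_eq_zero]
    intro p hp
    by_contra h
    exact hz₀ _ (fun h' => h ((Polynomial.map_eq_zero _).mp h')) hp
  refine ⟨IsFractionRing.lift hg, fun p a ha => ?_⟩
  have hpa : a = algebraMap (Polynomial k) E p := Subtype.ext (by rw [ha, hmap])
  rw [hpa, IsFractionRing.lift_algebraMap]
  rfl

omit [∀ P, Algebra.IsSeparable k (F P)] in
/-- The semilocal formula over one center. -/
theorem semilocal (hx : Transcendental k x) [FiniteDimensional (adjoin k ({x} : Set K)) K]
    {z₀ : LaurentSeries Lk} (hz₀ : ∀ p : Polynomial Lk, p ≠ 0 → RationalSum.ev z₀ p ≠ 0)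
    {J : Type*} [Fintype J] (π : J → Pt F) (hπ : Function.Injective π) (d : J → Local.Dat Lk)
    (hd : ∀ j, Local.σL (d j) z₀ = chi φ (π j) x) :
    (∑ j, (d j).e ≤ Module.finrank (adjoin k ({x} : Set K)) K) ∧
    (∑ j, (d j).e = Module.finrank (adjoin k ({x} : Set K)) K → ∀ (y : K) (f g : Polynomial k),
      ((Algebra.trace (adjoin k ({x} : Set K)) K y : adjoin k ({x} : Set K)) : K) *
          Polynomial.aeval x g = Polynomial.aeval x f → g ≠ 0 →
      ∑ j, (chi φ (π j) y * LocRes.D Lk (chi φ (π j) x)).coeff (-1) =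
        (RationalSum.ev z₀ (f.map (algebraMap k Lk)) / RationalSum.ev z₀ (g.map (algebraMap k Lk)) *
          LocRes.D Lk z₀).coeff (-1)) := by
  set E := adjoin k ({x} : Set K)
  obtain ⟨φ₀, hφ₀⟩ := exists_phi hx hz₀
  let gx : E := ⟨x, mem_adjoin_simple_self k x⟩
  have hφx : φ₀ gx = z₀ := by
    rw [hφ₀ Polynomial.X gx (by simp [gx])]
    simp [RationalSum.ev]
  have hc : ∀ j a, chi φ (π j) (algebraMap E K a) = Local.σL (d j) (φ₀ a) := by
    intro j a
    have hpoly : ∀ p : Polynomial k, ∀ b : E, (b : K) = Polynomial.aeval x p →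
        chi φ (π j) (b : K) = Local.σL (d j) (φ₀ b) := fun p b hb => by
      simp only [hφ₀ p b hb, hb, chi_aeval, ← hd j, RationalSum.ev, Polynomial.coe_eval₂RingHom,
        Polynomial.hom_eval₂]
      congr 1
      exact RingHom.ext fun c => (Local.σL_C (d j) c).symm
    obtain ⟨r, s, hrs⟩ := (IntermediateField.mem_adjoin_simple_iff k (a : K)).mp a.2
    have hmem : ∀ p : Polynomial k, Polynomial.aeval x p ∈ E := fun p =>
      IntermediateField.algebra_adjoin_le_adjoin k _
        (Polynomial.aeval_mem_adjoin_singleton k x)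
    have ha : a = (⟨_, hmem r⟩ : E) / ⟨_, hmem s⟩ := Subtype.ext hrs
    change chi φ (π j) (a : K) = _
    rw [ha, map_div₀, map_div₀, ← hpoly r ⟨_, hmem r⟩ rfl, ← hpoly s ⟨_, hmem s⟩ rfl, ← map_div₀]
    rfl
  have hW := W_eq_top φ hφ π hπ d
  refine ⟨TraceFormula.sum_le hc hW, fun hn y f g hfg hg => ?_⟩
  have h := TraceFormula.res_eq hc hW hn y gx
  rw [hφx] at h
  refine h.trans ?_
  have hmem : ∀ p : Polynomial k, Polynomial.aeval x p ∈ E := fun p =>
    IntermediateField.algebra_adjoin_le_adjoin k _ (Polynomial.aeval_mem_adjoin_singleton k x)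
  have htr : Algebra.trace E K y * ⟨_, hmem g⟩ = (⟨_, hmem f⟩ : E) := Subtype.ext hfg
  have hgE : φ₀ ⟨_, hmem g⟩ ≠ 0 := by
    rw [hφ₀ g _ rfl]
    exact hz₀ _ fun h' => hg ((Polynomial.map_eq_zero _).mp h')
  rw [show φ₀ (Algebra.trace E K y) = φ₀ ⟨_, hmem f⟩ / φ₀ ⟨_, hmem g⟩ by
    rw [eq_div_iff hgE, ← map_mul, htr], hφ₀ f _ rfl, hφ₀ g _ rfl]

/-- The center of a point. -/
noncomputable def center (x : K) (j : Pt F) : Lk := (chi φ j x).coeff 0

omit [∀ P, FiniteDimensional k (F P)] [∀ P, Algebra.IsSeparable k (F P)] in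
theorem exists_powerSeries {j : Pt F} {z : K} (hz : j.1.1 z ≤ 1) :
    ∃ p : PowerSeries Lk, (p : LaurentSeries Lk) = chi φ j z :=
  (LaurentSeries.val_le_one_iff_eq_coe _ _).mp ((val_chi φ hφ j z).trans_le hz)

omit [∀ P, FiniteDimensional k (F P)] [∀ P, Algebra.IsSeparable k (F P)] in
theorem val_lt_one_iff {j : Pt F} {z : K} (hz : j.1.1 z ≤ 1) :
    j.1.1 z < 1 ↔ (chi φ j z).coeff 0 = 0 := by
  obtain ⟨P, ι⟩ := j
  rw [show (chi φ ⟨P, ι⟩ z).coeff 0 = ι ((φ P z).coeff 0) by rw [chi_apply, Coef.coeff_mapL]; rfl,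
    _root_.map_eq_zero]
  exact (Coef.resHom_eq_zero_iff (hφ P) ⟨z, hz⟩).symm

omit [∀ P, FiniteDimensional k (F P)] [∀ P, Algebra.IsSeparable k (F P)] in
theorem center_aeval {j : Pt F} (hx : j.1.1 x ≤ 1) (p : Polynomial k) :
    j.1.1 (Polynomial.aeval x p) ≤ 1 ∧
      (chi φ j (Polynomial.aeval x p)).coeff 0 = Polynomial.aeval (center φ x j) p := by
  induction p using Polynomial.induction_on' with
  | add p q hp hq =>
    rw [map_add (Polynomial.aeval x), map_add (chi φ j), HahnSeries.coeff_add, hp.2, hq.2,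
      map_add (Polynomial.aeval (center φ x j))]
    exact ⟨j.1.1.map_add_le hp.1 hq.1, rfl⟩
  | monomial n c =>
    have hle : j.1.1 (Polynomial.aeval x (Polynomial.monomial n c)) ≤ 1 := by
      rw [Polynomial.aeval_monomial, map_mul, map_pow]
      exact mul_le_one' (j.1.2.1 c) (pow_le_one' hx n)
    refine ⟨hle, ?_⟩
    obtain ⟨q, hq⟩ := exists_powerSeries φ hφ hx
    rw [Polynomial.aeval_monomial, Polynomial.aeval_monomial, map_mul, map_pow, chi_algebraMap,
      center, ← hq, ← PowerSeries.coe_pow, ← HahnSeries.ofPowerSeries_C, ← PowerSeries.coe_mul,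
      PowerSeries.coeff_coe, PowerSeries.coeff_coe, if_neg (lt_irrefl _), if_neg (lt_irrefl _)]
    simp

omit [∀ P, FiniteDimensional k (F P)] [∀ P, Algebra.IsSeparable k (F P)] in
theorem center_eq_root {j : Pt F} (hx : j.1.1 x ≤ 1) {q : Polynomial k}
    (hq : j.1.1 (Polynomial.aeval x q) < 1) : Polynomial.aeval (center φ x j) q = 0 := by
  obtain ⟨hle, hc⟩ := center_aeval φ hφ hx q
  rw [← hc]
  exact (val_lt_one_iff φ hφ hle).mp hq

omit hφ [∀ P, FiniteDimensional k (F P)] [∀ P, Algebra.IsSeparable k (F P)] in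
theorem chi_ne_C (hx : Transcendental k x) (j : Pt F) (a : Lk) : chi φ j x ≠ HahnSeries.C a := fun h => by
  obtain ⟨q, hq0, hq⟩ := (Algebra.IsIntegral.isIntegral (R := k) a).isAlgebraic
  apply hx
  refine ⟨q, hq0, (map_eq_zero (chi φ j)).mp ?_⟩
  rw [chi_aeval, h, RationalSum.ev, Polynomial.coe_eval₂RingHom, Polynomial.eval₂_map]
  rw [show ((HahnSeries.C (Γ := ℤ)).comp (algebraMap k Lk)) = (HahnSeries.C (Γ := ℤ) (R := Lk)).comp (algebraMap k Lk) from rfl,
    ← Polynomial.hom_eval₂, ← Polynomial.aeval_def, hq, map_zero]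

omit hφ in
theorem exists_dat {S : LaurentSeries Lk} (hS : S ≠ 0) (hv : Valued.v S < 1) :
    ∃ d : Local.Dat Lk, Local.param d = S ∧ Valued.v S = exp (-(d.e : ℤ)) := by
  obtain ⟨n, u, hnu, hvn⟩ := Hasse.Residue.decompose hS
  rw [hvn, ← exp_zero, exp_lt_exp] at hv
  obtain ⟨e, rfl⟩ := Int.eq_ofNat_of_zero_le (show 0 ≤ n by omega)
  exact ⟨⟨e, by omega, u⟩, by rw [Local.param_eq, hnu], hvn⟩

omit hφ [∀ P, FiniteDimensional k (F P)] [∀ P, Algebra.IsSeparable k (F P)] in
theorem chi_sub (j : Pt F) (x : K) (a : Lk) :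
    RationalSum.ev (chi φ j x) (Polynomial.X - Polynomial.C a) = chi φ j x - HahnSeries.C a := by
  simp [RationalSum.ev]

theorem sum_points (S : Finset (_root_.FunFld.Place k K)) (m : _root_.FunFld.Place k K → ℤ) :
    ∑ j ∈ S.sigma fun P => (Finset.univ : Finset (F P →ₐ[k] Lk)), m j.1 =
      ∑ P ∈ S, m P * (P.deg : ℤ) := by
  rw [Finset.sum_sigma]
  refine Finset.sum_congr rfl fun P _ => ?_
  simp only [Finset.sum_const, Finset.card_univ, AlgHom.card, nsmul_eq_mul, mul_comm,
    Coef.finrank_eq_deg (hφ P)]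

omit [∀ P, FiniteDimensional k (F P)] [∀ P, Algebra.IsSeparable k (F P)] in
/-- Data at a finite center. -/
theorem dat_fin (hx : Transcendental k x) {j : Pt F} (hxj : j.1.1 x ≤ 1) :
    ∃ d : Local.Dat Lk, Local.σL d (RationalSum.zfin (center φ x j)) = chi φ j x ∧
      Valued.v (chi φ j x - HahnSeries.C (center φ x j)) = exp (-(d.e : ℤ)) := by
  set S := chi φ j x - HahnSeries.C (center φ x j)
  have hS : S ≠ 0 := sub_ne_zero.mpr (chi_ne_C φ hx j _)
  have hv : Valued.v S < 1 := by
    obtain ⟨p, hp⟩ := exists_powerSeries φ hφ hxj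
    have h1 : Valued.v S ≤ exp (-(1 : ℤ)) :=
      (LaurentSeries.valuation_le_iff_coeff_lt_eq_zero Lk).mpr fun m hm => by
        rw [HahnSeries.coeff_sub, HahnSeries.C_apply]
        rcases lt_or_eq_of_le (show m ≤ 0 by omega) with hm0 | rfl
        · rw [← hp, PowerSeries.coeff_coe, if_pos hm0, HahnSeries.coeff_single_of_ne hm0.ne, sub_zero]
        · rw [HahnSeries.coeff_single_same, center, sub_self]
    exact h1.trans_lt (by rw [← exp_zero, exp_lt_exp]; norm_num)
  obtain ⟨d, hd, hde⟩ := exists_dat hS hv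
  refine ⟨d, ?_, hde⟩
  rw [RationalSum.zfin, map_add, Local.σL_C, show (1 : ℤ) = ((1 : ℕ) : ℤ) from rfl, Local.σL_single,
    pow_one, hd, add_sub_cancel]

omit [∀ P, FiniteDimensional k (F P)] [∀ P, Algebra.IsSeparable k (F P)] in
/-- Data at an infinite center. -/
theorem dat_inf {j : Pt F} (hxj : 1 < j.1.1 x) :
    ∃ d : Local.Dat Lk, Local.σL d (HahnSeries.single (-1 : ℤ) 1) = chi φ j x ∧
      Valued.v (chi φ j x) = exp (d.e : ℤ) := by
  have hne : chi φ j x ≠ 0 := fun h => by
    rw [← val_chi φ hφ j, h, map_zero] at hxj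
    simp at hxj
  have hv : Valued.v (chi φ j x)⁻¹ < 1 := by
    rw [map_inv₀, val_chi φ hφ]
    exact inv_lt_one_of_one_lt₀ hxj
  obtain ⟨d, hd, hde⟩ := exists_dat (inv_ne_zero hne) hv
  refine ⟨d, ?_, ?_⟩
  · rw [show HahnSeries.single (-1 : ℤ) (1 : Lk) = (HahnSeries.single ((1 : ℕ) : ℤ) 1)⁻¹ by
      rw [HahnSeries.inv_single, inv_one]; rfl, map_inv₀, Local.σL_single, pow_one, hd, inv_inv]
  · rw [map_inv₀, inv_eq_iff_eq_inv, ← exp_neg, neg_neg] at hde
    exact hde

variable (hK : FunFld.IsFunctionField k K)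
include hK

omit hφ hK [∀ P, FiniteDimensional k (F P)] [∀ P, Algebra.IsSeparable k (F P)] in
theorem val_aeval_of_pole {P : _root_.FunFld.Place k K} (hxP : 1 < P.1 x) {q : Polynomial k}
    (hq : q.Monic) : P.1 (Polynomial.aeval x q) = P.1 x ^ q.natDegree := by
  rw [Polynomial.aeval_eq_sum_range, P.1.map_sum_eq_of_lt (j := q.natDegree)
    (Finset.mem_range.mpr (Nat.lt_succ_self _))]
  · rw [hq.coeff_natDegree, one_smul, map_pow]
  · intro i hi
    simp only [Finset.mem_sdiff, Finset.mem_range, Finset.mem_singleton] at hi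
    rw [hq.coeff_natDegree, one_smul, map_pow, Algebra.smul_def, map_mul, map_pow]
    exact (mul_le_of_le_one_left zero_le (P.2.1 _)).trans_lt (pow_lt_pow_right₀ hxP (by omega))

omit hφ [∀ P, FiniteDimensional k (F P)] [∀ P, Algebra.IsSeparable k (F P)] in
theorem deg_zeroDiv_aeval (hx : Transcendental k x) {q : Polynomial k} (hq : q.Monic)
    (hd : 0 < q.natDegree) :
    (Degree.zeroDiv (k := k) (Polynomial.aeval x q)).deg =
      q.natDegree * Module.finrank (adjoin k ({x} : Set K)) K := by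
  set z := Polynomial.aeval x q
  have h1 : (Degree.zeroDiv (k := k) z).deg = (Degree.poleDiv (k := k) z).deg := by
    have h := Degree.deg_div hK z
    rw [show _root_.FunFld.div k z = Degree.zeroDiv z - Degree.poleDiv z from
      (posPart_sub_negPart _).symm, Degree.deg_sub] at h
    omega
  have h2 : Degree.poleDiv (k := k) z = (q.natDegree : ℤ) • Degree.poleDiv (k := k) x := by
    ext P
    rw [Finsupp.smul_apply, Degree.poleDiv_apply hK, Degree.poleDiv_apply hK, smul_eq_mul]
    rcases le_or_gt (P.1 x) 1 with h | h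
    · have hz : P.1 z ≤ 1 := by
        have hsum : z = ∑ i ∈ Finset.range (q.natDegree + 1), q.coeff i • x ^ i :=
          Polynomial.aeval_eq_sum_range x
        rw [hsum]
        refine P.1.map_sum_le fun i _ => ?_
        rw [Algebra.smul_def, map_mul, map_pow]
        exact mul_le_one' (P.2.1 _) (pow_le_one' h i)
      rw [Place.val_le_one_iff] at h hz
      rw [max_eq_right (by omega), max_eq_right (by omega), mul_zero]
    · have hz : P.ord z = q.natDegree * P.ord x := by
        rw [Place.ord_def, Place.ord_def, val_aeval_of_pole h hq, log_pow, nsmul_eq_mul]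
        ring
      rw [Place.one_lt_val_iff] at h
      have hneg : P.ord z < 0 := by rw [hz]; exact mul_neg_of_pos_of_neg (by exact_mod_cast hd) h
      rw [max_eq_left (by omega), max_eq_left (by omega), hz, mul_neg]
  rw [h1, h2, Degree.deg_smul, Degree.deg_poleDiv hK hx]

omit hφ [∀ P, FiniteDimensional k (F P)] [∀ P, Algebra.IsSeparable k (F P)] in
/-- Zeros of a polynomial in `x`. -/
theorem mem_zeros_iff (hx : Transcendental k x) {q : Polynomial k} (hq : q.Monic)
    (_hd : 0 < q.natDegree) {P : _root_.FunFld.Place k K} :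
    P ∈ (Degree.zeroDiv (k := k) (Polynomial.aeval x q)).support ↔
      P.1 x ≤ 1 ∧ P.1 (Polynomial.aeval x q) < 1 := by
  have hne : Polynomial.aeval x q ≠ 0 := fun h => hx ⟨q, hq.ne_zero, h⟩
  rw [Finsupp.mem_support_iff, Degree.zeroDiv_apply hK, Place.val_lt_one_iff, or_iff_right hne]
  constructor
  · intro h
    have hpos : 0 < P.ord (Polynomial.aeval x q) := by omega
    refine ⟨not_lt.mp fun hlt => ?_, hpos⟩
    have := val_aeval_of_pole hlt hq
    have h1 : P.1 (Polynomial.aeval x q) < 1 := (Place.val_lt_one_iff P).mpr (Or.inr hpos)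
    rw [this] at h1
    exact absurd h1 (not_lt.mpr (one_le_pow₀ hlt.le))
  · rintro ⟨-, h⟩; omega

/-- The points over a finite center: degree and residue formula. -/
theorem finite_center [FiniteDimensional (adjoin k ({x} : Set K)) K] (hx : Transcendental k x) (a : Lk) :
    ∀ (T : Finset (Pt F)), (∀ j, j ∈ T ↔ j.1.1 x ≤ 1 ∧ center φ x j = a) →
      ∀ (y : K) (f g : Polynomial k),
      ((Algebra.trace (adjoin k ({x} : Set K)) K y : adjoin k ({x} : Set K)) : K) *
          Polynomial.aeval x g = Polynomial.aeval x f → g ≠ 0 →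
      ∑ j ∈ T, (chi φ j y * LocRes.D Lk (chi φ j x)).coeff (-1) =
        RationalSum.resFin (f.map (algebraMap k Lk)) (g.map (algebraMap k Lk)) a := by
  classical
  set n := Module.finrank (adjoin k ({x} : Set K)) K
  have hint : IsIntegral k a := Algebra.IsIntegral.isIntegral a
  set q := minpoly k a
  have hqm : q.Monic := minpoly.monic hint
  have hqd : 0 < q.natDegree := minpoly.natDegree_pos hint
  have hqi : Irreducible q := minpoly.irreducible hint
  set Z := (Degree.zeroDiv (k := k) (Polynomial.aeval x q)).support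
  set A : Finset (Pt F) := Z.sigma fun _ => Finset.univ
  have hA : ∀ j, j ∈ A ↔ j.1.1 x ≤ 1 ∧ Polynomial.aeval (center φ x j) q = 0 := fun j => by
    rw [Finset.mem_sigma, and_iff_left (Finset.mem_univ _), mem_zeros_iff hK hx hqm hqd]
    refine and_congr_right fun h => ?_
    obtain ⟨hle, hc⟩ := center_aeval φ hφ h q
    rw [val_lt_one_iff φ hφ hle, hc]
  have hdeg : (Degree.zeroDiv (k := k) (Polynomial.aeval x q)).deg = (q.natDegree * n : ℕ) := by
    rw [deg_zeroDiv_aeval hK hx hqm hqd]; push_cast; rfl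
  have hsum : ∑ j ∈ A, j.1.ord (Polynomial.aeval x q) = (q.natDegree * n : ℕ) := by
    rw [sum_points φ hφ Z (fun P => P.ord (Polynomial.aeval x q)), ← hdeg, _root_.FunFld.Divisor.deg,
      Finsupp.sum]
    refine Finset.sum_congr rfl fun P hP => ?_
    have hP' := Finsupp.mem_support_iff.mp hP
    rw [Degree.zeroDiv_apply hK] at hP' ⊢
    rw [max_eq_left (by omega)]
  have hqsep : q.Separable := by
    have hn : 0 < n := Module.finrank_pos
    obtain ⟨⟨P, ι⟩, hj⟩ : A.Nonempty := Finset.nonempty_iff_ne_empty.mpr fun h => by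
      rw [h, Finset.sum_empty] at hsum
      have : 0 < q.natDegree * n := Nat.mul_pos hqd hn
      omega
    obtain ⟨hxj, hroot⟩ := (hA _).mp hj
    have hc : center φ x ⟨P, ι⟩ = ι ((φ P x).coeff 0) := by rw [center, chi_apply, Coef.coeff_mapL]; rfl
    rw [hc, Polynomial.aeval_algHom_apply, map_eq_zero] at hroot
    have := minpoly.eq_of_irreducible_of_monic hqi hroot hqm
    rw [this]
    exact Algebra.IsSeparable.isSeparable k _
  set R := (q.aroots Lk).toFinset
  have hmemR : ∀ b, b ∈ R ↔ Polynomial.aeval b q = 0 := fun b => by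
    rw [Multiset.mem_toFinset, Polynomial.mem_aroots, and_iff_right hqm.ne_zero]
  have hRcard : R.card = q.natDegree := by
    rw [Multiset.toFinset_card_of_nodup (Polynomial.nodup_roots hqsep.map)]
    exact IsAlgClosed.card_aroots_eq_natDegree
  -- one center
  have hcenter : ∀ b ∈ R, ∑ j ∈ A.filter (fun j => center φ x j = b), j.1.ord (Polynomial.aeval x q) ≤ n ∧
      (∑ j ∈ A.filter (fun j => center φ x j = b), j.1.ord (Polynomial.aeval x q) = n →
      ∀ (y : K) (f g : Polynomial k),
      ((Algebra.trace (adjoin k ({x} : Set K)) K y : adjoin k ({x} : Set K)) : K) *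
          Polynomial.aeval x g = Polynomial.aeval x f → g ≠ 0 →
      ∑ j ∈ A.filter (fun j => center φ x j = b), (chi φ j y * LocRes.D Lk (chi φ j x)).coeff (-1) =
        RationalSum.resFin (f.map (algebraMap k Lk)) (g.map (algebraMap k Lk)) b) := by
    intro b hb
    set Jb := A.filter (fun j => center φ x j = b)
    have hJ : ∀ j : Jb, j.1.1.1 x ≤ 1 ∧ center φ x j.1 = b := fun j =>
      ⟨((hA _).mp (Finset.mem_filter.mp j.2).1).1, (Finset.mem_filter.mp j.2).2⟩
    choose d hd hde using fun j : Jb => dat_fin φ hφ hx (hJ j).1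
    have hd' : ∀ j : Jb, Local.σL (d j) (RationalSum.zfin b) = chi φ j.1 x := fun j => by
      rw [← (hJ j).2]; exact hd j
    have hord : ∀ j : Jb, j.1.1.ord (Polynomial.aeval x q) = ((d j).e : ℤ) := by
      intro j
      obtain ⟨h, hh⟩ : (Polynomial.X - Polynomial.C b) ∣ q.map (algebraMap k Lk) :=
        Polynomial.dvd_iff_isRoot.mpr (by
          rw [Polynomial.IsRoot.def, Polynomial.eval_map_algebraMap]; exact (hmemR b).mp hb)
      have hb0 : h.eval b ≠ 0 := fun h0 => by
        obtain ⟨h', rfl⟩ := Polynomial.dvd_iff_isRoot.mpr h0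
        have := (hqsep.map (f := algebraMap k Lk)).squarefree (Polynomial.X - Polynomial.C b)
          ⟨h', by rw [hh, mul_assoc]⟩
        exact Polynomial.not_isUnit_X_sub_C b this
      obtain ⟨p, hp⟩ := exists_powerSeries φ hφ (hJ j).1
      have hval : Valued.v (RationalSum.ev (chi φ j.1 x) h) = 1 := by
        have hps : ∀ r : Polynomial Lk, RationalSum.ev (chi φ j.1 x) r =
            ((Polynomial.aeval p r : PowerSeries Lk) : LaurentSeries Lk) := fun r => by
          rw [← hp, RationalSum.ev, Polynomial.coe_eval₂RingHom, Polynomial.aeval_def,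
            Polynomial.hom_eval₂]
          congr 1
          exact RingHom.ext fun c => by
            simp [HahnSeries.ofPowerSeries_C]
        have hp0 : PowerSeries.constantCoeff p = b := by
          rw [← (hJ j).2, center, ← hp, PowerSeries.coeff_coe, if_neg (lt_irrefl _)]
          simp
        have hu : IsUnit (Polynomial.aeval p h) := by
          refine PowerSeries.isUnit_iff_constantCoeff.mpr (isUnit_iff_ne_zero.mpr ?_)
          rw [Polynomial.aeval_def, Polynomial.hom_eval₂, hp0]
          rwa [show (PowerSeries.constantCoeff.comp (algebraMap Lk (PowerSeries Lk))) = RingHom.id Lk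
            from RingHom.ext fun c => by simp, Polynomial.eval₂_id]
        obtain ⟨w, hw⟩ := hu
        rw [hps, ← hw]
        have h1 : ∀ w : PowerSeries Lk, Valued.v (w : LaurentSeries Lk) ≤ 1 := fun w =>
          (LaurentSeries.val_le_one_iff_eq_coe _ _).mpr ⟨w, rfl⟩
        refine le_antisymm (h1 _) ?_
        have := mul_le_mul_right (h1 (↑w⁻¹)) (Valued.v ((w : PowerSeries Lk) : LaurentSeries Lk))
        rwa [← map_mul, ← PowerSeries.coe_mul, Units.mul_inv, PowerSeries.coe_one, map_one,
          mul_one] at this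
      have hv : j.1.1.1 (Polynomial.aeval x q) = exp (-((d j).e : ℤ)) := by
        rw [← val_chi φ hφ j.1, chi_aeval, hh, map_mul, map_mul, hval, mul_one, chi_sub, ← hde j,
          (hJ j).2]
      rw [Place.ord_eq_of_val_eq_exp _ hv, neg_neg]
    have hsumd : ∑ j ∈ Jb, j.1.ord (Polynomial.aeval x q) = ((∑ j, (d j).e : ℕ) : ℤ) := by
      rw [← Finset.sum_coe_sort Jb, Nat.cast_sum]
      exact Finset.sum_congr rfl fun j _ => hord j
    obtain ⟨hle, heq⟩ := semilocal φ hφ hx (fun p hp => RationalSum.ev_zfin_ne_zero b hp)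
      (fun j : Jb => (j.1 : Pt F)) Subtype.val_injective d hd'
    refine ⟨by rw [hsumd]; exact_mod_cast hle, fun hn y f g hfg hg => ?_⟩
    rw [hsumd] at hn
    have := heq (by exact_mod_cast hn) y f g hfg hg
    rw [← Finset.sum_coe_sort Jb]
    exact this
  have hall : ∑ b ∈ R, ∑ j ∈ A.filter (fun j => center φ x j = b), j.1.ord (Polynomial.aeval x q) =
      ∑ b ∈ R, (n : ℤ) := by
    rw [Finset.sum_fiberwise_of_maps_to (fun j hj => (hmemR _).mpr ((hA j).mp hj).2), hsum,
      Finset.sum_const, hRcard, nsmul_eq_mul]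
    push_cast
    ring
  intro T hT y f g hfg hg
  have ha : a ∈ R := (hmemR a).mpr (minpoly.aeval k a)
  have hTA : T = A.filter (fun j => center φ x j = a) := by
    ext j
    rw [hT, Finset.mem_filter, hA]
    exact ⟨fun ⟨h1, h2⟩ => ⟨⟨h1, h2 ▸ minpoly.aeval k a⟩, h2⟩, fun ⟨⟨h1, _⟩, h2⟩ => ⟨h1, h2⟩⟩
  rw [hTA]
  exact (hcenter a ha).2
    ((Finset.sum_eq_sum_iff_of_le fun b hb => (hcenter b hb).1).mp hall a ha) y f g hfg hg

/-- The points over infinity. -/
theorem infinite_center [FiniteDimensional (adjoin k ({x} : Set K)) K] (hx : Transcendental k x)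
    (T : Finset (Pt F)) (hT : ∀ j, j ∈ T ↔ 1 < j.1.1 x) (y : K) (f g : Polynomial k)
    (hfg : ((Algebra.trace (adjoin k ({x} : Set K)) K y : adjoin k ({x} : Set K)) : K) *
          Polynomial.aeval x g = Polynomial.aeval x f) (hg : g ≠ 0) :
    ∑ j ∈ T, (chi φ j y * LocRes.D Lk (chi φ j x)).coeff (-1) =
      RationalSum.resInf (f.map (algebraMap k Lk)) (g.map (algebraMap k Lk)) := by
  classical
  choose d hd hde using fun j : T => dat_inf φ hφ ((hT j.1).mp j.2)
  obtain ⟨-, heq⟩ := semilocal φ hφ hx (fun p hp => RationalSum.ev_inf_ne_zero hp)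
    (fun j : T => (j.1 : Pt F)) Subtype.val_injective d hd
  have hn : ∑ j, (d j).e = Module.finrank (adjoin k ({x} : Set K)) K := by
    have hTeq : T = (Degree.poleDiv (k := k) x).support.sigma fun _ => Finset.univ := by
      ext j
      rw [hT, Finset.mem_sigma, and_iff_left (Finset.mem_univ _), Finsupp.mem_support_iff,
        Degree.poleDiv_apply hK, Place.one_lt_val_iff]
      omega
    have hord : ∀ j : T, ((d j).e : ℤ) = -j.1.1.ord x := fun j => by
      rw [Place.ord_eq_of_val_eq_exp _ ((val_chi φ hφ j.1 x).symm.trans (hde j)), neg_neg]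
    have h1 : ((∑ j, (d j).e : ℕ) : ℤ) = (Degree.poleDiv (k := k) x).deg := by
      rw [Nat.cast_sum, Finset.sum_congr rfl fun j _ => hord j,
        Finset.sum_coe_sort T (fun j => -j.1.ord x), hTeq,
        sum_points φ hφ _ (fun P => -P.ord x), _root_.FunFld.Divisor.deg, Finsupp.sum]
      refine Finset.sum_congr rfl fun P hP => ?_
      have hP' := Finsupp.mem_support_iff.mp hP
      rw [Degree.poleDiv_apply hK] at hP' ⊢
      rw [max_eq_left (by omega)]
    rw [Degree.deg_poleDiv hK hx] at h1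
    exact_mod_cast h1
  have := heq hn y f g hfg hg
  rw [← Finset.sum_coe_sort T]
  exact this

/-- The residue theorem. -/
theorem residue_theorem (hx : Transcendental k x) [FiniteDimensional (adjoin k ({x} : Set K)) K]
    (y : K) :
    (Function.support fun P => LocRes.locRes (φ P) y x).Finite ∧
      ∑ᶠ P, LocRes.locRes (φ P) y x = 0 := by
  classical
  have hzero : ∀ P : _root_.FunFld.Place k K, P.1 y ≤ 1 → P.1 x ≤ 1 →
      LocRes.resExp (φ P) y x = 0 := fun P hy hxP => by
    obtain ⟨a, ha⟩ := (LaurentSeries.val_le_one_iff_eq_coe _ _).mp (((hφ P).1 y).trans_le hy)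
    obtain ⟨b, hb⟩ := (LaurentSeries.val_le_one_iff_eq_coe _ _).mp (((hφ P).1 x).trans_le hxP)
    rw [LocRes.resExp, LocRes.res_apply, ← ha, ← hb, LocRes.D_coe, ← PowerSeries.coe_mul,
      PowerSeries.coeff_coe, if_pos (by norm_num)]
  set U₀ := (Degree.poleDiv (k := k) x).support ∪ (Degree.poleDiv (k := k) y).support
  have hU₀ : ∀ P : _root_.FunFld.Place k K, P ∉ U₀ → P.1 y ≤ 1 ∧ P.1 x ≤ 1 := fun P hP => by
    simp only [U₀, Finset.mem_union, Finsupp.mem_support_iff, not_or, not_not,
      Degree.poleDiv_apply hK] at hP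
    exact ⟨(Place.val_le_one_iff P).mpr (by omega), (Place.val_le_one_iff P).mpr (by omega)⟩
  have hsupp : (Function.support fun P => LocRes.locRes (φ P) y x) ⊆ ↑U₀ := fun P hP => by
    by_contra h
    obtain ⟨h1, h2⟩ := hU₀ P h
    exact hP (by change LocRes.locRes (φ P) y x = 0; rw [LocRes.locRes, hzero P h1 h2, map_zero])
  refine ⟨U₀.finite_toSet.subset hsupp, ?_⟩
  -- the trace and a denominator
  obtain ⟨f, g, hfg⟩ := (IntermediateField.mem_adjoin_simple_iff k _).mp
    (Algebra.trace (adjoin k ({x} : Set K)) K y).2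
  obtain ⟨f', g', hg', hfg'⟩ : ∃ f' g' : Polynomial k, g' ≠ 0 ∧
      ((Algebra.trace (adjoin k ({x} : Set K)) K y : adjoin k ({x} : Set K)) : K) *
        Polynomial.aeval x g' = Polynomial.aeval x f' := by
    by_cases h : g = 0
    · refine ⟨0, 1, one_ne_zero, ?_⟩
      rw [hfg, h, map_zero, div_zero, zero_mul]
    · refine ⟨f, g, h, ?_⟩
      rw [hfg, div_mul_cancel₀]
      exact fun h' => hx ⟨g, h, h'⟩
  set A := U₀.sigma fun P => (Finset.univ : Finset (F P →ₐ[k] Lk))
  set S := ((A.filter fun j => j.1.1 x ≤ 1).image (center φ x)) ∪ (g'.aroots Lk).toFinset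
  set U := U₀ ∪ S.biUnion fun a => (Degree.zeroDiv (k := k) (Polynomial.aeval x (minpoly k a))).support
  set B := U.sigma fun P => (Finset.univ : Finset (F P →ₐ[k] Lk))
  let r : Pt F → Lk := fun j => (chi φ j y * LocRes.D Lk (chi φ j x)).coeff (-1)
  have hr : ∀ j : Pt F, r j = j.2 (LocRes.resExp (φ j.1) y x) := fun j => by
    simp only [r, chi_apply, Coef.D_mapL, ← map_mul, Coef.coeff_mapL]
    rfl
  have hB : ∑ j ∈ B, r j = algebraMap k Lk (∑ᶠ P, LocRes.locRes (φ P) y x) := by
    rw [finsum_eq_sum_of_support_subset _ (hsupp.trans (Finset.coe_subset.mpr Finset.subset_union_left)),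
      map_sum, Finset.sum_sigma]
    refine Finset.sum_congr rfl fun P _ => ?_
    rw [LocRes.locRes, trace_eq_sum_embeddings Lk]
    exact Finset.sum_congr rfl fun ι _ => hr ⟨P, ι⟩
  have hfin : ∀ a ∈ S, ∑ j ∈ B.filter (fun j => j.1.1 x ≤ 1 ∧ center φ x j = a), r j =
      RationalSum.resFin (f'.map (algebraMap k Lk)) (g'.map (algebraMap k Lk)) a := fun a ha => by
    refine finite_center φ hφ hK hx a _ (fun j => ?_) y f' g' hfg' hg'
    rw [Finset.mem_filter, and_iff_right_iff_imp]
    rintro ⟨h1, h2⟩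
    refine Finset.mem_sigma.mpr ⟨Finset.mem_union_right _ (Finset.mem_biUnion.mpr ⟨a, ha, ?_⟩),
      Finset.mem_univ _⟩
    have hint : IsIntegral k a := Algebra.IsIntegral.isIntegral a
    rw [mem_zeros_iff hK hx (minpoly.monic hint) (minpoly.natDegree_pos hint)]
    obtain ⟨hle, hc⟩ := center_aeval φ hφ h1 (minpoly k a)
    exact ⟨h1, (val_lt_one_iff φ hφ hle).mpr (by rw [hc, h2, minpoly.aeval])⟩
  have hinf : ∑ j ∈ B.filter (fun j => 1 < j.1.1 x), r j =
      RationalSum.resInf (f'.map (algebraMap k Lk)) (g'.map (algebraMap k Lk)) := by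
    refine infinite_center φ hφ hK hx _ (fun j => ?_) y f' g' hfg' hg'
    rw [Finset.mem_filter, and_iff_right_iff_imp]
    intro h
    refine Finset.mem_sigma.mpr ⟨Finset.mem_union_left _ (Finset.mem_union_left _ ?_), Finset.mem_univ _⟩
    rw [Finsupp.mem_support_iff, Degree.poleDiv_apply hK]
    have := (Place.one_lt_val_iff j.1).mp h
    omega
  have htot := RationalSum.tot_eq_zero S (g := g'.map (algebraMap k Lk))
    (fun h => hg' ((Polynomial.map_eq_zero _).mp h))
    (fun a ha => Finset.mem_union_right _ (Multiset.mem_toFinset.mpr (Polynomial.mem_aroots.mpr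
      ⟨hg', by rwa [Polynomial.IsRoot.def, Polynomial.eval_map_algebraMap] at ha⟩)))
    (f'.map (algebraMap k Lk))
  rw [RationalSum.tot, ← hinf, ← Finset.sum_congr rfl hfin] at htot
  have hsplit : ∑ j ∈ B, r j = ∑ a ∈ S, ∑ j ∈ B.filter (fun j => j.1.1 x ≤ 1 ∧ center φ x j = a), r j +
      ∑ j ∈ B.filter (fun j => 1 < j.1.1 x), r j := by
    rw [← Finset.sum_filter_add_sum_filter_not B (fun j : Pt F => j.1.1 x ≤ 1)]
    congr 1
    · rw [← Finset.sum_filter_of_ne (p := fun j : Pt F => center φ x j ∈ S) (fun j hj hne => ?_),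
        ← Finset.sum_fiberwise_of_maps_to (g := fun j : Pt F => center φ x j)
          (fun j hj => (Finset.mem_filter.mp hj).2)]
      · refine Finset.sum_congr rfl fun a ha => ?_
        refine Finset.sum_congr ?_ fun _ _ => rfl
        ext j
        simp only [Finset.mem_filter]
        exact ⟨fun h => ⟨h.1.1.1, h.1.1.2, h.2⟩, fun h => ⟨⟨⟨h.1, h.2.1⟩, h.2.2 ▸ ha⟩, h.2.2⟩⟩
      · obtain ⟨hjB, hjx⟩ := Finset.mem_filter.mp hj
        by_contra hnot
        refine hne ?_
        rw [hr, hzero j.1 ?_ hjx, map_zero]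
        by_contra hy
        refine hnot (Finset.mem_union_left _ (Finset.mem_image.mpr ⟨j, Finset.mem_filter.mpr
          ⟨Finset.mem_sigma.mpr ⟨Finset.mem_union_right _ ?_, Finset.mem_univ _⟩, hjx⟩, rfl⟩))
        rw [Finsupp.mem_support_iff, Degree.poleDiv_apply hK]
        have := (Place.one_lt_val_iff j.1).mp (not_le.mp hy)
        omega
    · exact Finset.sum_congr (Finset.filter_congr fun j _ => not_le) fun _ _ => rfl
  rw [← hsplit, hB, map_eq_zero] at htot
  exact htot

end Groth.Agent.Lib.FunFld.Res.Global
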