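import Groth.Agent.Lib.FunFld.Res.SepRes
import Groth.Agent.Lib.FunFld.Res.Global

/-! The residue pairing: basic properties. -/

namespace Groth.Agent.Lib.FunFld.Res.Basic

open WithZero
open Groth.Agent.Lib.FunFld

universe u v w
variable {k : Type u} {K : Type v} [Field k] [Field K] [Algebra k K]

theorem resExp_eq_zero_of_val {F : Type w} [Field F] [Algebra k F] {φ : K →ₐ[k] LaurentSeries F}
    {u v : K} (h : LocRes.vDiff φ u v ≤ 1) : LocRes.resExp φ u v = 0 :=
  (LaurentSeries.valuation_le_iff_coeff_lt_eq_zero F).mp (h.trans_eq (by rw [neg_zero, exp_zero]) :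
    Valued.v (φ u * LocRes.D F (φ v)) ≤ exp (-(0 : ℤ))) (-1) (by norm_num)

theorem val_D_le_one {F : Type w} [Field F] {g : LaurentSeries F} (h : Valued.v g ≤ 1) :
    Valued.v (LocRes.D F g) ≤ 1 := by
  obtain ⟨p, rfl⟩ := (LaurentSeries.val_le_one_iff_eq_coe F _).mp h
  rw [LocRes.D_coe]
  exact (LaurentSeries.val_le_one_iff_eq_coe F _).mpr ⟨_, rfl⟩

theorem vDiff_le_one {F : Type w} [Field F] [Algebra k F] {P : _root_.FunFld.Place k K}
    {φ : K →ₐ[k] LaurentSeries F} (hφ : LocRes.IsExpansionAt P.1 φ) {u v : K} (hu : P.1 u ≤ 1)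
    (hv : P.1 v ≤ 1) : LocRes.vDiff φ u v ≤ 1 := by
  rw [LocRes.vDiff, map_mul]
  exact mul_le_one' ((hφ.1 u).trans_le hu) (val_D_le_one ((hφ.1 v).trans_le hv))

theorem locRes_eq_zero_of_val {F : Type w} [Field F] [Algebra k F] {φ : K →ₐ[k] LaurentSeries F}
    {u v : K} (h : LocRes.vDiff φ u v ≤ 1) : LocRes.locRes φ u v = 0 := by
  rw [LocRes.locRes, resExp_eq_zero_of_val h, map_zero]

theorem locRes_eq_zero_of_constant {F : Type w} [Field F] [Algebra k F]
    (φ : K →ₐ[k] LaurentSeries F) (u : K) {v : K} (hv : KaehlerDifferential.D k K v = 0) :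
    LocRes.locRes φ u v = 0 := by
  rw [LocRes.locRes, LocRes.resExp, SepRes.D_eq_zero_of_kaehler φ hv, mul_zero, map_zero, map_zero]

variable {F : _root_.FunFld.Place k K → Type w} [∀ P, Field (F P)] [∀ P, Algebra k (F P)]
  (φ : ∀ P, K →ₐ[k] LaurentSeries (F P))
  (hφ : ∀ P : _root_.FunFld.Place k K, LocRes.IsExpansionAt P.1 (φ P))
include hφ

omit hφ in
theorem eventually_val_le_one (hK : FunFld.IsFunctionField k K) (z : K) :
    ∀ᶠ P : _root_.FunFld.Place k K in Filter.cofinite, P.1 z ≤ 1 := by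
  rw [Filter.eventually_cofinite]
  exact (Degree.finite_support_ord hK z).subset fun P h h0 =>
    h ((Place.val_le_one_iff P).mpr h0.ge)

theorem finite_resExp (hK : FunFld.IsFunctionField k K) {a : _root_.FunFld.Place k K → K}
    (ha : a ∈ FunFld.adele k K) (v : K) :
    {P : _root_.FunFld.Place k K | LocRes.resExp (φ P) (a P) v ≠ 0}.Finite := by
  have ha' : ∀ᶠ P : _root_.FunFld.Place k K in Filter.cofinite, P.1 (a P) ≤ 1 := ha
  exact (Filter.eventually_cofinite.mp (ha'.and (eventually_val_le_one hK v))).subset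
    fun P hP h => hP (resExp_eq_zero_of_val (vDiff_le_one (hφ P) h.1 h.2))

theorem finite_locRes (hK : FunFld.IsFunctionField k K) {a : _root_.FunFld.Place k K → K}
    (ha : a ∈ FunFld.adele k K) (v : K) :
    (Function.support fun P => LocRes.locRes (φ P) (a P) v).Finite :=
  (finite_resExp φ hφ hK ha v).subset fun P hP h => hP (by
    change Algebra.trace k (F P) _ = 0
    rw [h, map_zero])

/-- The sum of the residues of a differential vanishes. -/
theorem sum_locRes_eq_zero [∀ P, FiniteDimensional k (F P)] (hK : FunFld.IsFunctionField k K)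
    (u v : K) : ∑ᶠ P, LocRes.locRes (φ P) u v = 0 := by
  by_cases hv : KaehlerDifferential.D k K v = 0
  · exact finsum_eq_zero_of_forall_eq_zero fun P => locRes_eq_zero_of_constant (φ P) u hv
  by_cases hsep : ∃ x₀ : K, Hasse.Separable.IsSep k x₀
  · have hx := Hasse.Separable.transcendental_of_D_ne_zero hK hv
    have := Bound.finiteDimensional_adjoin_transcendental hK hx
    have := fun P => SepRes.isSeparable_of_expansion (hφ P) hsep
    exact (Global.residue_theorem φ hφ hK hx u).2
  · exact finsum_eq_zero_of_forall_eq_zero fun P => SepRes.locRes_eq_zero hK hsep (hφ P) u v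

omit hφ in
theorem adele_const (hK : FunFld.IsFunctionField k K) (z : K) :
    (fun _ => z : _root_.FunFld.Place k K → K) ∈ FunFld.adele k K :=
  eventually_val_le_one hK z

end Groth.Agent.Lib.FunFld.Res.Basic
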