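import Groth.Agent.Lib.FunFld.Approx
import Groth.Agent.Lib.FunFld.Existence
import Groth.Agent.Lib.FunFld.Hasse.Residue
import Groth.Prelude.Def_LocRes

/-! Change of coefficients of Laurent series; approximation of expansions. -/

namespace Groth.Agent.Lib.FunFld.Res.Coef

open WithZero

universe u v w z
variable {F : Type w} {L : Type z} [Field F] [Field L] (f : F →+* L)

theorem map_injective : Function.Injective (PowerSeries.map f) := fun a b h =>
  PowerSeries.ext fun n => f.injective (by
    have := congrArg (PowerSeries.coeff n) h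
    simpa only [PowerSeries.coeff_map] using this)

/-- Auxiliary map on power series. -/
noncomputable def mapAux : PowerSeries F →+* LaurentSeries L :=
  (HahnSeries.ofPowerSeries ℤ L).comp (PowerSeries.map f)

theorem mapAux_injective : Function.Injective (mapAux f) := fun _ _ h =>
  map_injective f (HahnSeries.ofPowerSeries_injective h)

/-- Apply a field map to all coefficients. -/
noncomputable def mapL : LaurentSeries F →+* LaurentSeries L :=
  IsFractionRing.lift (mapAux_injective f)

theorem mapL_coe (p : PowerSeries F) :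
    mapL f (p : LaurentSeries F) = ((PowerSeries.map f p : PowerSeries L) : LaurentSeries L) :=
  IsFractionRing.lift_algebraMap (mapAux_injective f) p

theorem mapL_C (a : F) : mapL f (HahnSeries.C a) = HahnSeries.C (f a) := by
  rw [← HahnSeries.ofPowerSeries_C, mapL_coe, PowerSeries.map_C, HahnSeries.ofPowerSeries_C]

theorem mapL_single (n : ℤ) : mapL f (HahnSeries.single n 1) = HahnSeries.single n 1 := by
  have hnat : ∀ m : ℕ, mapL f (HahnSeries.single (m : ℤ) 1) = HahnSeries.single (m : ℤ) 1 :=
    fun m => by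
      rw [← HahnSeries.ofPowerSeries_X_pow, mapL_coe, map_pow, PowerSeries.map_X,
        HahnSeries.ofPowerSeries_X_pow]
  obtain ⟨m, rfl | rfl⟩ := n.eq_nat_or_neg
  · exact hnat m
  · have h1 : HahnSeries.single (-(m : ℤ)) (1 : F) = (HahnSeries.single (m : ℤ) 1)⁻¹ := by
      rw [HahnSeries.inv_single, inv_one]
    have h2 : HahnSeries.single (-(m : ℤ)) (1 : L) = (HahnSeries.single (m : ℤ) 1)⁻¹ := by
      rw [HahnSeries.inv_single, inv_one]
    rw [h1, h2, map_inv₀, hnat]

theorem coeff_mapL (g : LaurentSeries F) (n : ℤ) : (mapL f g).coeff n = f (g.coeff n) := by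
  conv_lhs => rw [← g.single_order_mul_powerSeriesPart, map_mul, mapL_single, mapL_coe,
    HahnSeries.coeff_single_mul, one_mul]
  conv_rhs => rw [← g.single_order_mul_powerSeriesPart, HahnSeries.coeff_single_mul, one_mul]
  rw [PowerSeries.coeff_coe, PowerSeries.coeff_coe]
  split_ifs
  · rw [map_zero]
  · rw [PowerSeries.coeff_map]

theorem D_mapL (g : LaurentSeries F) : LocRes.D L (mapL f g) = mapL f (LocRes.D F g) := by
  ext n
  rw [LocRes.D_coeff, coeff_mapL, coeff_mapL, LocRes.D_coeff, map_zsmul]

theorem val_mapL (g : LaurentSeries F) : Valued.v (mapL f g) = Valued.v g := by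
  rcases eq_or_ne g 0 with rfl | hg
  · simp
  obtain ⟨d, u, hdu, hv⟩ := Hasse.Residue.decompose hg
  rw [hv, hdu, map_mul, mapL_single, mapL_coe, map_mul, LaurentSeries.valuation_single_zpow]
  have h1 : ∀ w : PowerSeries L, Valued.v (w : LaurentSeries L) ≤ 1 := fun w =>
    (LaurentSeries.val_le_one_iff_eq_coe L _).mpr ⟨w, rfl⟩
  obtain ⟨w, hw⟩ := u.isUnit.map (PowerSeries.map f)
  have : Valued.v ((PowerSeries.map f u : PowerSeries L) : LaurentSeries L) = 1 := by
    rw [← hw]
    refine le_antisymm (h1 _) ?_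
    have := mul_le_mul_right (h1 (↑w⁻¹)) (Valued.v ((w : PowerSeries L) : LaurentSeries L))
    rwa [← map_mul, ← PowerSeries.coe_mul, Units.mul_inv, PowerSeries.coe_one, map_one,
      mul_one] at this
  rw [this, mul_one]

section Expansion

variable {k : Type u} {K : Type v} [Field k] [Field K] [Algebra k K] [Algebra k F]
  {P : _root_.FunFld.Place k K} {φ : K →ₐ[k] LaurentSeries F}

/-- Every series is approximated by the expansion of an element. -/
theorem exists_approx (hφ : LocRes.IsExpansionAt P.1 φ) (p : PowerSeries F) (N : ℕ) :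
    ∃ a : K, Valued.v (φ a - (p : LaurentSeries F)) ≤ exp (-(N : ℤ)) := by
  obtain ⟨hv, hres, t, ht⟩ := hφ
  induction N with
  | zero =>
    refine ⟨0, ?_⟩
    rw [map_zero, zero_sub, Valuation.map_neg, Nat.cast_zero, neg_zero, exp_zero]
    exact (LaurentSeries.val_le_one_iff_eq_coe F _).mpr ⟨p, rfl⟩
  | succ N ih =>
    obtain ⟨a, ha⟩ := ih
    have htN : Valued.v (φ (t ^ N)) = exp (-(N : ℤ)) := by
      rw [hv, map_pow, ht, ← exp_nsmul, nsmul_eq_mul, mul_neg, mul_one]
    have htN0 : φ (t ^ N) ≠ 0 := fun h => by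
      rw [h, map_zero] at htN
      exact exp_ne_zero htN.symm
    obtain ⟨q, hq⟩ := (LaurentSeries.val_le_one_iff_eq_coe F _).mp
      (show Valued.v ((φ a - (p : LaurentSeries F)) * (φ (t ^ N))⁻¹) ≤ 1 by
        rw [map_mul, map_inv₀, htN]
        exact (mul_le_mul_left ha _).trans_eq (mul_inv_cancel₀ exp_ne_zero))
    obtain ⟨c, hc1, hc⟩ := hres (PowerSeries.constantCoeff q)
    obtain ⟨c', hc'⟩ := (LaurentSeries.val_le_one_iff_eq_coe F _).mp ((hv c).trans_le hc1)
    refine ⟨a - c * t ^ N, ?_⟩
    have hsmall : Valued.v ((q - c' : PowerSeries F) : LaurentSeries F) ≤ exp (-(1 : ℤ)) := by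
      refine (LaurentSeries.valuation_le_iff_coeff_lt_eq_zero F).mpr fun m hm => ?_
      rw [PowerSeries.coeff_coe]
      split_ifs with h
      · rfl
      rw [show m.natAbs = 0 by omega, map_sub, PowerSeries.coeff_zero_eq_constantCoeff_apply,
        PowerSeries.coeff_zero_eq_constantCoeff_apply]
      rw [← hc', PowerSeries.coeff_coe, if_neg (lt_irrefl _), Int.natAbs_zero,
        PowerSeries.coeff_zero_eq_constantCoeff_apply] at hc
      rw [hc, sub_self]
    have he : φ (a - c * t ^ N) - (p : LaurentSeries F) =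
        ((q - c' : PowerSeries F) : LaurentSeries F) * φ (t ^ N) := by
      rw [PowerSeries.coe_sub, hq, hc', sub_mul, mul_assoc, inv_mul_cancel₀ htN0, mul_one, map_sub,
        map_mul]
      abel
    rw [he, map_mul, htN, Nat.cast_succ, neg_add, exp_add, mul_comm]
    exact mul_le_mul_right hsmall _

/-- The residue map of an expansion. -/
noncomputable def resHom (hφ : LocRes.IsExpansionAt P.1 φ) : P.O →ₐ[k] F :=
  have hex : ∀ z : P.O, ∃ p : PowerSeries F, (p : LaurentSeries F) = φ (z : K) := fun z =>
    (LaurentSeries.val_le_one_iff_eq_coe F _).mp ((hφ.1 _).trans_le z.2)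
  { toFun := fun z => (φ (z : K)).coeff 0
    map_one' := by simp
    map_mul' := fun a b => by
      obtain ⟨p, hp⟩ := hex a
      obtain ⟨q, hq⟩ := hex b
      rw [MulMemClass.coe_mul, map_mul, ← hp, ← hq, ← PowerSeries.coe_mul, PowerSeries.coeff_coe,
        PowerSeries.coeff_coe, PowerSeries.coeff_coe]
      simp
    map_zero' := by simp
    map_add' := fun a b => by simp
    commutes' := fun c => by
      change (φ (algebraMap k K c)).coeff 0 = _
      rw [LocRes.map_algebraMap, HahnSeries.C_apply, HahnSeries.coeff_single_same] }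

theorem resHom_apply (hφ : LocRes.IsExpansionAt P.1 φ) (z : P.O) :
    resHom hφ z = (φ (z : K)).coeff 0 := rfl

theorem resHom_surjective (hφ : LocRes.IsExpansionAt P.1 φ) : Function.Surjective (resHom hφ) :=
  fun a => by
    obtain ⟨f, hf, hfa⟩ := hφ.2.1 a
    exact ⟨⟨f, hf⟩, hfa⟩

theorem resHom_eq_zero_iff (hφ : LocRes.IsExpansionAt P.1 φ) (z : P.O) :
    resHom hφ z = 0 ↔ P.1 (z : K) < 1 := by
  obtain ⟨p, hp⟩ := (LaurentSeries.val_le_one_iff_eq_coe F _).mp ((hφ.1 (z : K)).trans_le z.2)
  rw [resHom_apply, ← hφ.1, ← hp, PowerSeries.coeff_coe, if_neg (lt_irrefl _), Int.natAbs_zero]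
  constructor
  · intro h
    have h1 : Valued.v (p : LaurentSeries F) ≤ exp (-(1 : ℤ)) :=
      (LaurentSeries.valuation_le_iff_coeff_lt_eq_zero F).mpr fun m hm => by
        rw [PowerSeries.coeff_coe]
        split_ifs with hh
        · rfl
        · rwa [show m.natAbs = 0 by omega]
    exact h1.trans_lt (by rw [← exp_zero, exp_lt_exp]; norm_num)
  · intro h
    have h1 : Valued.v (p : LaurentSeries F) ≤ exp (-(1 : ℤ)) := by
      generalize Valued.v (p : LaurentSeries F) = x at h ⊢
      rcases eq_or_ne x 0 with rfl | hx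
      · simp
      · rw [← exp_log hx, ← exp_zero, exp_lt_exp] at h
        rw [← exp_log hx, exp_le_exp]
        omega
    have h2 := (LaurentSeries.valuation_le_iff_coeff_lt_eq_zero F).mp h1 0 one_pos
    rwa [PowerSeries.coeff_coe, if_neg (lt_irrefl _), Int.natAbs_zero] at h2

theorem finrank_eq_deg (hφ : LocRes.IsExpansionAt P.1 φ) : Module.finrank k F = P.deg := by
  have hker : RingHom.ker (resHom hφ) = IsLocalRing.maximalIdeal P.O := by
    ext z
    rw [RingHom.mem_ker, resHom_eq_zero_iff, Place.mem_maximalIdeal_iff]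
  let e : (P.O ⧸ RingHom.ker (resHom hφ)) ≃ₐ[k] F :=
    Ideal.quotientKerAlgEquivOfSurjective (resHom_surjective hφ)
  let e₁ : IsLocalRing.ResidueField P.O ≃+* F :=
    (Ideal.quotEquivOfEq hker.symm).trans e.toRingEquiv
  let e₂ : IsLocalRing.ResidueField P.O ≃ₗ[k] F :=
    { e₁.toAddEquiv with
      map_smul' := fun c z => by
        change e₁ (c • z) = c • e₁ z
        rw [Algebra.smul_def, Algebra.smul_def, map_mul]
        congr 1
        exact (resHom hφ).commutes c }
  exact e₂.finrank_eq.symm

end Expansion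

end Groth.Agent.Lib.FunFld.Res.Coef
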