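import Groth.Agent.Lib.FunFld.Res.Local
import Groth.Agent.Lib.FunFld.Res.Coef
import Mathlib.RingTheory.Valuation.Extension
import Mathlib.RingTheory.Trace.Basic

/-! The trace formula for residues in a finite extension of complete fields. -/

namespace Groth.Agent.Lib.FunFld.Res.Complete

open WithZero
open Groth.Agent.Lib.FunFld.Res
open Groth.Agent.Lib.FunFld.Res.Local

universe u v

section Coefficients

variable (K : Type u) (L : Type u) [Field K] [Field L] [Algebra K L]

/-- Coefficientwise application of a `K`-linear form. -/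
noncomputable def coefMap (f : L →ₗ[K] K) (g : LaurentSeries L) : LaurentSeries K := g.map f

theorem coefMap_coeff (f : L →ₗ[K] K) (g : LaurentSeries L) (n : ℤ) :
    (coefMap K L f g).coeff n = f (g.coeff n) := rfl

variable {K L} {ι : Type*} [Fintype ι] (b : Module.Basis ι K L)

/-- Series with coefficients in `L` in a basis of `L` over `K`. -/
theorem eq_sum_coefMap (g : LaurentSeries L) :
    g = ∑ j, HahnSeries.C (b j) * Coef.mapL (algebraMap K L) (coefMap K L (b.coord j) g) := by
  ext n
  rw [HahnSeries.coeff_sum]
  conv_lhs => rw [← b.sum_repr (g.coeff n)]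
  refine Finset.sum_congr rfl fun j _ => ?_
  rw [HahnSeries.C_mul_eq_smul, HahnSeries.coeff_smul, Coef.coeff_mapL, coefMap_coeff, smul_eq_mul,
    Algebra.smul_def, mul_comm]
  rfl

theorem coefMap_sum (c : ι → LaurentSeries K) (i : ι) :
    coefMap K L (b.coord i) (∑ j, HahnSeries.C (b j) * Coef.mapL (algebraMap K L) (c j)) = c i := by
  ext n
  rw [coefMap_coeff, HahnSeries.coeff_sum]
  have e : ∀ j, (HahnSeries.C (b j) * Coef.mapL (algebraMap K L) (c j)).coeff n = (c j).coeff n • b j :=
    fun j => by
      rw [HahnSeries.C_mul_eq_smul, HahnSeries.coeff_smul, Coef.coeff_mapL, smul_eq_mul,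
        Algebra.smul_def, mul_comm]
  simp only [e, Module.Basis.coord_apply, Module.Basis.repr_sum_self]

/-- The basis of series over series. -/
noncomputable def seriesBasis :
    @Module.Basis ι (LaurentSeries K) (LaurentSeries L) _ _
      (Coef.mapL (algebraMap K L)).toAlgebra.toModule :=
  letI := (Coef.mapL (algebraMap K L)).toAlgebra
  Module.Basis.ofEquivFun
    { toFun := fun g i => coefMap K L (b.coord i) g
      map_add' := fun g h => funext fun i => HahnSeries.ext (funext fun n => by
        simp [coefMap_coeff])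
      map_smul' := fun c g => funext fun i => by
        change coefMap K L (b.coord i) (Coef.mapL (algebraMap K L) c * g) =
          c * coefMap K L (b.coord i) g
        conv_lhs => rw [eq_sum_coefMap b g, Finset.mul_sum]
        simp only [mul_left_comm (Coef.mapL (algebraMap K L) c), ← map_mul]
        exact coefMap_sum b (fun j => c * coefMap K L (b.coord j) g) i
      invFun := fun c => ∑ j, HahnSeries.C (b j) * Coef.mapL (algebraMap K L) (c j)
      left_inv := fun g => (eq_sum_coefMap b g).symm
      right_inv := fun c => funext (coefMap_sum b c) }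

theorem seriesBasis_apply [DecidableEq ι] (j : ι) :
    seriesBasis b j = HahnSeries.C (b j) := by
  let _ := (Coef.mapL (algebraMap K L)).toAlgebra
  rw [seriesBasis, Module.Basis.coe_ofEquivFun]
  change ∑ l, HahnSeries.C (b l) * Coef.mapL (algebraMap K L) ((Pi.single j 1 : ι → LaurentSeries K) l) = _
  rw [Finset.sum_eq_single j (fun l _ hl => by rw [Pi.single_eq_of_ne hl, map_zero, mul_zero])
    (fun h => absurd (Finset.mem_univ j) h), Pi.single_eq_same, map_one, mul_one]

include b in
/-- The trace of a series is taken coefficientwise. -/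
theorem trace_series (g : LaurentSeries L) (n : ℤ) :
    letI := (Coef.mapL (algebraMap K L)).toAlgebra
    (Algebra.trace (LaurentSeries K) (LaurentSeries L) g).coeff n =
      Algebra.trace K L (g.coeff n) := by
  classical
  let _ := (Coef.mapL (algebraMap K L)).toAlgebra
  rw [Algebra.trace_eq_matrix_trace (seriesBasis b), Algebra.trace_eq_matrix_trace b, Matrix.trace,
    Matrix.trace, HahnSeries.coeff_sum]
  refine Finset.sum_congr rfl fun i _ => ?_
  simp only [Matrix.diag_apply, Algebra.leftMulMatrix_eq_repr_mul, seriesBasis_apply]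
  change (coefMap K L (b.coord i) (g * HahnSeries.C (b i))).coeff n = _
  rw [coefMap_coeff, mul_comm g, HahnSeries.C_mul_eq_smul, HahnSeries.coeff_smul, smul_eq_mul,
    mul_comm (b i)]
  rfl

end Coefficients

theorem val_C_le_one {F : Type*} [Field F] (a : F) : Valued.v (HahnSeries.C a : LaurentSeries F) ≤ 1 := by
  rw [← HahnSeries.ofPowerSeries_C]
  exact (LaurentSeries.val_le_one_iff_eq_coe _ _).mpr ⟨_, rfl⟩

theorem val_σL {F : Type*} [Field F] (d : Dat F) (g : LaurentSeries F) :
    Valued.v (σL d g) = Valued.v g ^ d.e := by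
  rcases eq_or_ne g 0 with rfl | hg
  · rw [map_zero, map_zero, zero_pow d.he.ne']
  obtain ⟨n, u, hnu, hv⟩ := Hasse.Residue.decompose hg
  have h1 : ∀ w : PowerSeries F, Valued.v (w : LaurentSeries F) ≤ 1 := fun w =>
    (LaurentSeries.val_le_one_iff_eq_coe F _).mpr ⟨w, rfl⟩
  have hunit : ∀ w : (PowerSeries F)ˣ, Valued.v ((w : PowerSeries F) : LaurentSeries F) = 1 := fun w => by
    refine le_antisymm (h1 _) ?_
    have := mul_le_mul_right (h1 (↑w⁻¹)) (Valued.v ((w : PowerSeries F) : LaurentSeries F))
    rwa [← map_mul, ← PowerSeries.coe_mul, Units.mul_inv, PowerSeries.coe_one, map_one,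
      mul_one] at this
  have hp : Valued.v (param d) = exp (-(d.e : ℤ)) := by
    rw [param_eq, map_mul, LaurentSeries.valuation_single_zpow, hunit, mul_one]
  have hs : σL d (HahnSeries.single (1 : ℤ) 1) = param d := by
    rw [show (1 : ℤ) = ((1 : ℕ) : ℤ) from rfl, σL_single, pow_one]
  rw [hv, hnu, map_mul, map_mul, RatFunc.single_zpow n, map_zpow₀, hs, map_zpow₀, hp, σL_coe,
    show ((Cover.σ d.e d.u d.he (u : PowerSeries F) : PowerSeries F) : LaurentSeries F) =
      ((Units.map (Cover.σ d.e d.u d.he : PowerSeries F →* PowerSeries F) u : PowerSeries F) :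
        LaurentSeries F) from rfl, hunit, mul_one, ← exp_zsmul, ← exp_nsmul]
  congr 1
  simp [mul_comm]

variable {K L : Type u} {F E : Type v} [Field K] [Field L] [Field F] [Field E] [Algebra K F]
  [Algebra F E] [Algebra K E] [IsScalarTower K F E] [Algebra K L] [Algebra L E] [IsScalarTower K L E]

/-- The trace formula. -/
theorem main [FiniteDimensional F E] [FiniteDimensional K L]
    {v : Valuation F (WithZero (Multiplicative ℤ))} {w : Valuation E (WithZero (Multiplicative ℤ))}
    [v.HasExtension w] {φ : F →ₐ[K] LaurentSeries K} (hφ : LocRes.IsExpansionAt v φ)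
    (hφs : Function.Surjective φ) {ψ : E →ₐ[L] LaurentSeries L} (hψ : LocRes.IsExpansionAt w ψ)
    (x : F) (y : E) :
    Algebra.trace K L (LocRes.resExp ψ y (algebraMap F E x)) =
      LocRes.resExp φ (Algebra.trace F E y) x := by
  classical
  let φe : F ≃+* LaurentSeries K := RingEquiv.ofBijective φ.toRingHom ⟨φ.toRingHom.injective, hφs⟩
  have hφe : ∀ z, φe z = φ z := fun z => rfl
  set t := φe.symm (HahnSeries.single (1 : ℤ) 1) with ht_def
  have hφt : φ t = HahnSeries.single (1 : ℤ) 1 := by rw [← hφe, ht_def, RingEquiv.apply_symm_apply]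
  have ht : v t = exp (-1) := by rw [← hφ.1, hφt, LaurentSeries.valuation_single_zpow]
  have ht0 : t ≠ 0 := fun h => exp_ne_zero (by rw [← ht, h, map_zero])
  -- the ramification index
  set S := ψ (algebraMap F E t) with hS_def
  have hS0 : S ≠ 0 := by simpa [hS_def] using ht0
  obtain ⟨n, u, hSu, hSv⟩ := Hasse.Residue.decompose hS0
  have hlt : Valued.v S < 1 := by
    rw [hS_def, hψ.1]
    exact (Valuation.HasExtension.val_map_lt_one_iff v w t).mpr
      (by rw [ht, ← exp_zero, exp_lt_exp]; norm_num)
  rw [hSv, ← exp_zero, exp_lt_exp] at hlt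
  obtain ⟨e, rfl⟩ := Int.eq_ofNat_of_zero_le (show 0 ≤ n by omega)
  have he : 0 < e := by omega
  let d : Dat L := ⟨e, he, u⟩
  have hparam : param d = S := by rw [param_eq]; exact hSu.symm
  have hw : ∀ z : F, w (algebraMap F E z) = v z ^ e := by
    intro z
    rcases eq_or_ne z 0 with rfl | hz
    · simp [he.ne']
    have hvz : v z ≠ 0 := (Valuation.ne_zero_iff _).mpr hz
    set m := -log (v z)
    have hu1 : v (z / t ^ m) = 1 := by
      rw [map_div₀, map_zpow₀, ht, ← exp_zsmul, div_eq_one_iff_eq exp_ne_zero]
      simp [m, exp_log hvz]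
    have hu2 : w (algebraMap F E (z / t ^ m)) = 1 := by
      have := (Valuation.HasExtension.val_map_eq_iff v w (z / t ^ m) 1).mpr (by rw [hu1, map_one])
      rwa [map_one, map_one] at this
    have hwt : w (algebraMap F E t) = exp (-(e : ℤ)) := by rw [← hψ.1, ← hS_def, hSv]
    rw [map_div₀, map_zpow₀, map_div₀, map_zpow₀, hwt, div_eq_one_iff_eq (zpow_ne_zero _ exp_ne_zero)] at hu2
    rw [hu2, ← exp_zsmul]
    conv_rhs => rw [← exp_log hvz, ← exp_nsmul]
    congr 1
    simp [m]; ring
  set θ := (σL d).comp (Coef.mapL (algebraMap K L))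
  have hθv : ∀ g, Valued.v (θ g) = Valued.v g ^ e := fun g => by
    rw [RingHom.comp_apply, val_σL, Coef.val_mapL]
  -- the structure map is the substitution
  have hcomm : ∀ z : F, ψ (algebraMap F E z) = θ (φ z) := by
    let χ : F →+* LaurentSeries L := ψ.toRingHom.comp (algebraMap F E)
    have hχ : ∀ z, Valued.v (χ z) = v z ^ e := fun z => (hψ.1 _).trans (hw z)
    have hpoly : ∀ p : Polynomial K, χ (Polynomial.aeval t p) = θ (φ (Polynomial.aeval t p)) := by
      intro p
      induction p using Polynomial.induction_on' with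
      | add p q hp hq => simp only [map_add, hp, hq]
      | monomial i c =>
        rw [Polynomial.aeval_monomial, map_mul, map_mul φ, map_mul θ, map_pow, map_pow φ, map_pow θ]
        congr 1
        · show ψ (algebraMap F E (algebraMap K F c)) = θ (φ (algebraMap K F c))
          rw [← IsScalarTower.algebraMap_apply K F E, IsScalarTower.algebraMap_apply K L E,
            LocRes.map_algebraMap, LocRes.map_algebraMap, RingHom.comp_apply, Coef.mapL_C, σL_C]
          rfl
        · congr 1
          simp only [θ, RingHom.comp_apply]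
          rw [hφt, Coef.mapL_single, show (1 : ℤ) = ((1 : ℕ) : ℤ) from rfl,
            σL_single, pow_one, hparam]
          rfl
    have hint : ∀ z, v z ≤ 1 → χ z = θ (φ z) := by
      intro z hz
      obtain ⟨p, hp⟩ := (LaurentSeries.val_le_one_iff_eq_coe K _).mp ((hφ.1 z).trans_le hz)
      by_contra hne
      have hD : Valued.v (χ z - θ (φ z)) ≠ 0 := (Valuation.ne_zero_iff _).mpr (sub_ne_zero.mpr hne)
      set N := (log (Valued.v (χ z - θ (φ z)))).natAbs + 1
      set q := Polynomial.aeval t (PowerSeries.trunc N p)
      have hq : v (z - q) ≤ exp (-(N : ℤ)) := by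
        rw [← hφ.1, map_sub, ← hp, ← Polynomial.aeval_algHom_apply, hφt,
          show (HahnSeries.single (1 : ℤ) (1 : K)) = ((PowerSeries.X : PowerSeries K) : LaurentSeries K)
            from HahnSeries.ofPowerSeries_X.symm]
        refine (LaurentSeries.valuation_le_iff_coeff_lt_eq_zero K).mpr fun i hi => ?_
        rw [show Polynomial.aeval ((PowerSeries.X : PowerSeries K) : LaurentSeries K)
            (PowerSeries.trunc N p) = (((PowerSeries.trunc N p : Polynomial K) : PowerSeries K) :
              LaurentSeries K) by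
          generalize PowerSeries.trunc N p = r
          induction r using Polynomial.induction_on' with
          | add a b ha hb => simp only [map_add, ha, hb, Polynomial.coe_add]
          | monomial i c =>
            rw [Polynomial.aeval_monomial, LocRes.algebraMap_eq_C, Polynomial.coe_monomial,
              PowerSeries.monomial_eq_mk, ← HahnSeries.ofPowerSeries_C, ← map_pow, ← map_mul]
            congr 1
            ext j
            simp [PowerSeries.coeff_X_pow]]
        rw [← map_sub, PowerSeries.coeff_coe]
        split_ifs with h0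
        · rfl
        · rw [map_sub, Polynomial.coeff_coe, PowerSeries.coeff_trunc,
            if_pos (by omega), sub_self]
      have h1 : Valued.v (χ z - θ (φ z)) ≤ exp (-(N : ℤ)) := by
        have e1 : χ z - θ (φ z) = χ (z - q) - θ (φ (z - q)) := by
          rw [map_sub χ, map_sub φ, map_sub θ, hpoly (PowerSeries.trunc N p)]; ring
        rw [e1]
        have hpow : v (z - q) ^ e ≤ exp (-(N : ℤ)) := by
          refine (pow_le_pow_left' hq e).trans ?_
          rw [← exp_nsmul, exp_le_exp, nsmul_eq_mul, mul_neg, neg_le_neg_iff]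
          exact le_mul_of_one_le_left (Int.natCast_nonneg N) (by exact_mod_cast he)
        exact Valued.v.map_sub_le ((hχ _).trans_le hpow) ((hθv _).trans_le ((hφ.1 (z - q)).symm ▸ hpow))
      rw [← exp_log hD, exp_le_exp] at h1
      omega
    intro z
    rcases le_total (v z) 1 with hz | hz
    · exact hint z hz
    · have := hint z⁻¹ (by rw [map_inv₀]; exact inv_le_one_of_one_le₀ hz)
      rw [map_inv₀, map_inv₀, map_inv₀, inv_inj] at this
      exact this
  -- the tower
  let _ : Algebra (LaurentSeries K) (LaurentSeries L) := (Coef.mapL (algebraMap K L)).toAlgebra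
  let b := Module.finBasis K L
  have : Module.Finite (LaurentSeries K) (LaurentSeries L) := Module.Finite.of_basis (seriesBasis b)
  have : Module.Finite (LaurentSeries L) (CovL d) := Module.Finite.of_basis (Local.basis d)
  let _ : Algebra (LaurentSeries K) (CovL d) :=
    ((algebraMap (LaurentSeries L) (CovL d)).comp (algebraMap (LaurentSeries K) (LaurentSeries L))).toAlgebra
  have : IsScalarTower (LaurentSeries K) (LaurentSeries L) (CovL d) := IsScalarTower.of_algebraMap_eq' rfl
  let ψc : E →+* CovL d := (Local.mk d).toRingHom.comp ψ.toRingHom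
  have hψs : Function.Surjective ψc := by
    obtain ⟨π, hπ⟩ := hψ.2.2
    let T : Subfield (CovL d) := ψc.fieldRange
    have hσT : ∀ g : LaurentSeries L, Local.mk d (σL d g) ∈ T := by
      intro g
      rw [eq_sum_coefMap b g, map_sum, map_sum]
      refine sum_mem fun j _ => ?_
      rw [map_mul, map_mul]
      refine mul_mem ⟨algebraMap L E (b j), ?_⟩ ⟨algebraMap F E (φe.symm (coefMap K L (b.coord j) g)), ?_⟩
      · show Local.mk d (ψ (algebraMap L E (b j))) = _
        rw [LocRes.map_algebraMap, σL_C]; rfl
      · show Local.mk d (ψ (algebraMap F E _)) = _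
        rw [hcomm, ← hφe, RingEquiv.apply_symm_apply]; rfl
    have hli : LinearIndependent (LaurentSeries L) fun r : Fin d.e => ψc (π ^ (r : ℕ)) := by
      rw [Fintype.linearIndependent_iff]
      intro c hc
      by_contra! hne
      obtain ⟨r₀, hr₀⟩ := hne
      have hval : ∀ r, Valued.v (σL d (c r) * ψ π ^ (r : ℕ)) =
          Valued.v (c r) ^ e * exp (-((r : ℕ) : ℤ)) := fun r => by
        rw [map_mul, val_σL, map_pow, hψ.1, hπ, ← exp_nsmul]
        simp [d]
      have hsum : ∑ r, σL d (c r) * ψ π ^ (r : ℕ) = 0 := by
        have := congrArg (Local.mk d).symm hc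
        simpa [Local.smul_def, ψc] using this
      obtain ⟨m, -, hm⟩ := Finset.exists_max_image Finset.univ
        (fun r => Valued.v (σL d (c r) * ψ π ^ (r : ℕ))) ⟨r₀, Finset.mem_univ _⟩
      have hm0 : Valued.v (c m) ≠ 0 := fun h => by
        have h2 := hm r₀ (Finset.mem_univ _)
        rw [hval, hval, h, zero_pow he.ne', zero_mul] at h2
        exact mul_ne_zero (pow_ne_zero _ ((Valuation.ne_zero_iff _).mpr hr₀)) exp_ne_zero
          (le_antisymm h2 zero_le)
      have hlt : ∀ r ∈ Finset.univ \ {m}, Valued.v (σL d (c r) * ψ π ^ (r : ℕ)) <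
          Valued.v (σL d (c m) * ψ π ^ (m : ℕ)) := by
        intro r hr
        refine lt_of_le_of_ne (hm r (Finset.mem_univ _)) fun heq => ?_
        rw [hval, hval] at heq
        have hr0 : Valued.v (c r) ≠ 0 := fun h => by
          rw [h, zero_pow he.ne', zero_mul] at heq
          exact mul_ne_zero (pow_ne_zero _ hm0) exp_ne_zero heq.symm
        rw [← exp_log hm0, ← exp_log hr0, ← exp_nsmul, ← exp_nsmul, ← exp_add, ← exp_add, exp_inj,
          nsmul_eq_mul, nsmul_eq_mul] at heq
        have hmod := congrArg (fun a : ℤ => a % (e : ℤ)) (congrArg Neg.neg heq)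
        simp only [neg_add_rev, neg_neg] at hmod
        rw [← mul_neg, ← mul_neg, Int.add_mul_emod_self_left, Int.add_mul_emod_self_left,
          Int.emod_eq_of_lt (by omega) (by exact_mod_cast r.2),
          Int.emod_eq_of_lt (by omega) (by exact_mod_cast m.2)] at hmod
        simp only [Finset.mem_sdiff, Finset.mem_singleton] at hr
        exact hr.2 (Fin.ext (by exact_mod_cast hmod))
      have h3 := Valued.v.map_sum_eq_of_lt (Finset.mem_univ m) hlt
      rw [hsum, map_zero, hval] at h3
      exact mul_ne_zero (pow_ne_zero _ hm0) exp_ne_zero h3.symm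
    have htop := hli.span_eq_top_of_card_eq_finrank' (by
      rw [Fintype.card_fin, Module.finrank_eq_card_basis (Local.basis d), Fintype.card_fin])
    intro z
    obtain ⟨c, hc⟩ := (Submodule.mem_span_range_iff_exists_fun _).1
      (htop ▸ Submodule.mem_top : z ∈ _)
    have hz : z ∈ T := by
      rw [← hc]
      refine sum_mem fun r _ => ?_
      rw [Local.smul_def]
      exact mul_mem (hσT _) ⟨_, rfl⟩
    exact hz
  let ψe : E ≃+* CovL d := RingEquiv.ofBijective ψc ⟨ψc.injective, hψs⟩
  have htr : φ (Algebra.trace F E y) =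
      Algebra.trace (LaurentSeries K) (LaurentSeries L)
        (Algebra.trace (LaurentSeries L) (CovL d) (Local.mk d (ψ y))) := by
    rw [Algebra.trace_trace, Algebra.trace_eq_of_equiv_equiv φe ψe (RingHom.ext fun z => by
      show Local.mk d (σL d (Coef.mapL (algebraMap K L) (φ z))) = Local.mk d (ψ (algebraMap F E z))
      rw [hcomm]; rfl) y, ← hφe, RingEquiv.apply_symm_apply]
    rfl
  rw [LocRes.resExp, LocRes.resExp, LocRes.res_apply, LocRes.res_apply, hcomm, RingHom.comp_apply,
    Local.res_trace, Coef.D_mapL, htr]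
  refine (trace_series b _ _).symm.trans ?_
  set h := Algebra.trace (LaurentSeries L) (CovL d) (Local.mk d (ψ y))
  set c := LocRes.D K (φ x)
  have key := (Algebra.trace (LaurentSeries K) (LaurentSeries L)).map_smul c h
  have e1 : c • h = h * Coef.mapL (algebraMap K L) c :=
    (Algebra.smul_def c h).trans (mul_comm _ _)
  rw [e1] at key
  rw [key]
  congr 1
  exact mul_comm _ _

end Groth.Agent.Lib.FunFld.Res.Complete
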