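import Mathlib.RingTheory.PowerSeries.Substitution
import Mathlib.RingTheory.PowerSeries.Derivative
import Mathlib.RingTheory.PowerSeries.Inverse
import Mathlib.Algebra.BigOperators.Fin
import Mathlib.Algebra.BigOperators.NatAntidiagonal

/-! The degree `e` cover `T ↦ X ^ e * u` of the formal disc over a commutative ring. -/

namespace Groth.Agent.Lib.FunFld.Res.Cover

open PowerSeries

universe u v
variable {A : Type u} [CommRing A] (e : ℕ) (u : (PowerSeries A)ˣ)

/-- The image of the parameter. -/
noncomputable def S : PowerSeries A := X ^ e * (u : PowerSeries A)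

theorem hasSubst (he : 0 < e) : HasSubst (S e u) :=
  HasSubst.of_constantCoeff_zero' (by rw [S, map_mul, map_pow, constantCoeff_X, zero_pow he.ne', zero_mul])

/-- The structure map. -/
noncomputable def σ (he : 0 < e) : PowerSeries A →ₐ[A] PowerSeries A := substAlgHom (hasSubst e u he)

variable (he : 0 < e)

theorem σ_X : σ e u he X = S e u := substAlgHom_X (hasSubst e u he)

theorem σ_C (a : A) : σ e u he (C a) = C a := by
  have := (σ e u he).commutes a
  rwa [algebraMap_eq] at this

/-- The kernel of the expansion in the mixed basis `X ^ r * S ^ q`. -/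
noncomputable def K (N M : ℕ) : A := coeff N (X ^ (M % e) * S e u ^ (M / e))

theorem K_of_lt {N M : ℕ} (h : N < M) : K e u N M = 0 := by
  rw [K, S, mul_pow, ← mul_assoc, ← pow_mul, ← pow_add, Nat.mod_add_div, coeff_X_pow_mul',
    if_neg (not_le.mpr h)]

theorem K_self (M : ℕ) : K e u M M = constantCoeff (u : PowerSeries A) ^ (M / e) := by
  rw [K, S, mul_pow, ← mul_assoc, ← pow_mul, ← pow_add, Nat.mod_add_div, coeff_X_pow_mul',
    if_pos le_rfl, Nat.sub_self, coeff_zero_eq_constantCoeff_apply, map_pow]

/-- The constant coefficient of the unit. -/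
noncomputable def w : Aˣ := Units.map (constantCoeff (R := A)).toMonoidHom u

theorem w_val : (w u : A) = constantCoeff (u : PowerSeries A) := rfl

/-- The coordinates of `g` in the mixed basis. -/
noncomputable def sol (g : PowerSeries A) : ℕ → A
  | N => (coeff N g - ∑ M : Fin N, sol g M * K e u N M) * ((w u) ^ (N / e))⁻¹.val
termination_by N => N
decreasing_by exact M.2

theorem sum_sol (g : PowerSeries A) (N : ℕ) :
    ∑ M ∈ Finset.range (N + 1), sol e u g M * K e u N M = coeff N g := by
  rw [Finset.sum_range_succ, K_self, ← w_val, ← Units.val_pow_eq_pow_val]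
  conv_lhs => arg 2; rw [sol]
  rw [mul_assoc, Units.inv_mul, mul_one, Finset.sum_range]
  abel

theorem sol_unique {g : PowerSeries A} {b : ℕ → A}
    (h : ∀ N, ∑ M ∈ Finset.range (N + 1), b M * K e u N M = coeff N g) (N : ℕ) :
    b N = sol e u g N := by
  induction N using Nat.strong_induction_on with
  | _ N ih =>
    have h1 := (h N).trans (sum_sol e u g N).symm
    rw [Finset.sum_range_succ, Finset.sum_range_succ,
      Finset.sum_congr rfl fun M hM => by rw [ih M (Finset.mem_range.mp hM)], add_right_inj,
      K_self, ← w_val, ← Units.val_pow_eq_pow_val, Units.mul_left_inj] at h1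
    exact h1

/-- The combination of the basis. -/
noncomputable def psi (a : Fin e → PowerSeries A) : PowerSeries A :=
  ∑ r, σ e u he (a r) * X ^ (r : ℕ)

/-- The flattened coefficients of a family. -/
noncomputable def flat (a : Fin e → PowerSeries A) (M : ℕ) : A :=
  coeff (M / e) (a ⟨M % e, Nat.mod_lt _ he⟩)

theorem coeff_psi (a : Fin e → PowerSeries A) (N : ℕ) :
    coeff N (psi e u he a) = ∑ M ∈ Finset.range (N + 1), flat e he a M * K e u N M := by
  have hr : ∀ r : Fin e, coeff N (σ e u he (a r) * X ^ (r : ℕ)) =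
      ∑ q ∈ Finset.range (N + 1), coeff q (a r) * coeff N (X ^ (r : ℕ) * S e u ^ q) := by
    intro r
    obtain ⟨h, hh⟩ : ∃ h, a r = (trunc (N + 1) (a r) : PowerSeries A) + X ^ (N + 1) * h :=
      ⟨PowerSeries.mk fun i => coeff (i + (N + 1)) (a r), by
        ext i
        rw [map_add, Polynomial.coeff_coe, coeff_trunc, coeff_X_pow_mul']
        rcases lt_or_ge i (N + 1) with hi | hi
        · rw [if_pos hi, if_neg (not_le.mpr hi), add_zero]
        · rw [if_neg (not_lt.mpr hi), if_pos hi, zero_add, coeff_mk, Nat.sub_add_cancel hi]⟩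
    conv_lhs => rw [hh, map_add, map_mul (σ e u he), map_pow (σ e u he), σ_X, add_mul, map_add]
    have h0 : coeff N (S e u ^ (N + 1) * σ e u he h * X ^ (r : ℕ)) = 0 := by
      obtain ⟨h', hh'⟩ : X ^ (N + 1) ∣ S e u ^ (N + 1) * σ e u he h * X ^ (r : ℕ) := by
        refine dvd_mul_of_dvd_left (dvd_mul_of_dvd_left ?_ _) _
        exact pow_dvd_pow_of_dvd (dvd_mul_of_dvd_left (dvd_pow_self X he.ne') _) _
      rw [hh', coeff_X_pow_mul', if_neg (by omega)]
    rw [h0, add_zero, trunc_apply, Nat.Ico_zero_eq_range]
    rw [← Polynomial.coeToPowerSeries.ringHom_apply, map_sum, map_sum, Finset.sum_mul, map_sum]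
    refine Finset.sum_congr rfl fun q _ => ?_
    rw [Polynomial.coeToPowerSeries.ringHom_apply, Polynomial.coe_monomial, monomial_eq_C_mul_X_pow,
      map_mul (σ e u he), σ_C, map_pow (σ e u he), σ_X, mul_assoc, coeff_C_mul,
      mul_comm (S e u ^ q)]
  rw [psi, map_sum, Finset.sum_congr rfl fun r _ => hr r]
  rw [Finset.sum_sigma' Finset.univ (fun _ => Finset.range (N + 1))]
  symm
  refine Finset.sum_bij_ne_zero (fun M _ _ => ⟨⟨M % e, Nat.mod_lt _ he⟩, M / e⟩) ?_ ?_ ?_ ?_
  · intro M hM _
    simp only [Finset.mem_sigma, Finset.mem_univ, Finset.mem_range, true_and] at hM ⊢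
    exact (Nat.div_le_self M e).trans_lt hM
  · intro M _ _ M' _ _ h
    simp only [Sigma.mk.injEq, Fin.mk.injEq, heq_eq_eq] at h
    rw [← Nat.mod_add_div M e, ← Nat.mod_add_div M' e, h.1, h.2]
  · rintro ⟨r, q⟩ _ hne
    have hd : (r.val + e * q) / e = q := by
      rw [Nat.add_mul_div_left _ _ he, Nat.div_eq_of_lt r.2, zero_add]
    have hm : (r.val + e * q) % e = r.val := by
      rw [Nat.add_mul_mod_self_left, Nat.mod_eq_of_lt r.2]
    have hrq : r.val + e * q ≤ N := by
      by_contra hlt
      apply hne
      have := K_of_lt e u (N := N) (M := r.val + e * q) (not_le.mp hlt)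
      rw [K, hd, hm] at this
      rw [this, mul_zero]
    refine ⟨r.val + e * q, Finset.mem_range.mpr (by omega), ?_, by simp [hd, hm]⟩
    simp only [flat, K, hd, hm, Fin.eta]
    exact hne
  · intro M _ _
    rfl

/-- The coordinate function. -/
noncomputable def coord (g : PowerSeries A) (r : Fin e) : PowerSeries A :=
  PowerSeries.mk fun q => sol e u g (r.val + e * q)

theorem flat_coord (g : PowerSeries A) : flat e he (coord e u g) = sol e u g := by
  funext M
  rw [flat, coord, coeff_mk, Nat.mod_add_div]

theorem psi_coord (g : PowerSeries A) : psi e u he (coord e u g) = g := by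
  ext N
  rw [coeff_psi, flat_coord, sum_sol]

theorem coord_psi (a : Fin e → PowerSeries A) : coord e u (psi e u he a) = a := by
  have h : ∀ M, flat e he a M = sol e u (psi e u he a) M :=
    sol_unique e u fun N => (coeff_psi e u he a N).symm
  funext r
  ext q
  rw [coord, coeff_mk, ← h, flat]
  have hd : (r.val + e * q) / e = q := by
    rw [Nat.add_mul_div_left _ _ he, Nat.div_eq_of_lt r.2, zero_add]
  have hm : (r.val + e * q) % e = r.val := by
    rw [Nat.add_mul_mod_self_left, Nat.mod_eq_of_lt r.2]
  simp only [hd, hm, Fin.eta]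

theorem psi_add (a b : Fin e → PowerSeries A) :
    psi e u he (a + b) = psi e u he a + psi e u he b := by
  simp [psi, add_mul, Finset.sum_add_distrib]

theorem psi_smul (c : PowerSeries A) (a : Fin e → PowerSeries A) :
    psi e u he (c • a) = σ e u he c * psi e u he a := by
  simp [psi, Finset.mul_sum, mul_assoc]

include he in
theorem coord_add (g h : PowerSeries A) : coord e u (g + h) = coord e u g + coord e u h := by
  conv_lhs => rw [← psi_coord e u he g, ← psi_coord e u he h, ← psi_add]
  rw [coord_psi]

theorem coord_σ_mul (c g : PowerSeries A) : coord e u (σ e u he c * g) = c • coord e u g := by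
  conv_lhs => rw [← psi_coord e u he g, ← psi_smul]
  rw [coord_psi]

include he in
theorem coord_zero : coord e u (0 : PowerSeries A) = 0 := by
  have := coord_σ_mul e u he 0 0
  rwa [map_zero, zero_mul, zero_smul] at this

/-- The trace of multiplication by `g`. -/
noncomputable def tr (g : PowerSeries A) : PowerSeries A :=
  ∑ j : Fin e, coord e u (g * X ^ (j : ℕ)) j

include he in
theorem tr_add (g h : PowerSeries A) : tr e u (g + h) = tr e u g + tr e u h := by
  simp [tr, add_mul, coord_add e u he, Finset.sum_add_distrib]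

theorem tr_σ_mul (c g : PowerSeries A) : tr e u (σ e u he c * g) = c * tr e u g := by
  simp [tr, mul_assoc, coord_σ_mul e u he, Finset.mul_sum]

/-- The residue of `g dT / T ^ (m + 1)`. -/
noncomputable def rhs (g : PowerSeries A) (m : ℕ) : A :=
  coeff (e * (m + 1) - 1) (g * derivative A (S e u) * ((u ^ (m + 1))⁻¹).val)

section Map

variable {B : Type v} [CommRing B] (φ : A →+* B)

/-- The transported unit. -/
noncomputable def mapUnit : (PowerSeries B)ˣ :=
  Units.map (PowerSeries.map φ : PowerSeries A →* PowerSeries B) u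

theorem map_S : PowerSeries.map φ (S e u) = S e (mapUnit u φ) := by
  rw [S, map_mul, map_pow, PowerSeries.map_X]; rfl

theorem map_σ (f : PowerSeries A) :
    PowerSeries.map φ (σ e u he f) = σ e (mapUnit u φ) he (PowerSeries.map φ f) := by
  rw [σ, σ, coe_substAlgHom, coe_substAlgHom, ← map_S]
  exact map_subst (hasSubst e u he) f

include he in
theorem map_coord (g : PowerSeries A) :
    (fun r => PowerSeries.map φ (coord e u g r)) = coord e (mapUnit u φ) (PowerSeries.map φ g) := by
  conv_rhs => rw [← psi_coord e u he g]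
  rw [show PowerSeries.map φ (psi e u he (coord e u g)) =
      psi e (mapUnit u φ) he (fun r => PowerSeries.map φ (coord e u g r)) by
    simp [psi, map_σ e u he, PowerSeries.map_X], coord_psi]

include he in
theorem map_tr (g : PowerSeries A) :
    PowerSeries.map φ (tr e u g) = tr e (mapUnit u φ) (PowerSeries.map φ g) := by
  rw [tr, tr, map_sum]
  refine Finset.sum_congr rfl fun j _ => ?_
  rw [congrFun (map_coord e u he φ (g * X ^ (j : ℕ))) j, map_mul, map_pow, PowerSeries.map_X]

theorem map_deriv (f : PowerSeries A) :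
    PowerSeries.map φ (derivative A f) = derivative B (PowerSeries.map φ f) := by
  ext i
  simp [coeff_derivative]

theorem map_rhs (g : PowerSeries A) (m : ℕ) :
    φ (rhs e u g m) = rhs e (mapUnit u φ) (PowerSeries.map φ g) m := by
  rw [rhs, rhs, ← coeff_map, map_mul (PowerSeries.map φ), map_mul (PowerSeries.map φ), map_deriv,
    map_S, mapUnit, ← map_pow, ← map_inv]
  rfl

end Map

end Groth.Agent.Lib.FunFld.Res.Cover
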