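import Groth.Agent.Lib.FunFld.Res.Cover
import Groth.Agent.Lib.FunFld.Hasse.Residue
import Mathlib.RingTheory.AdicCompletion.Completeness
import Mathlib.RingTheory.Henselian
import Mathlib.FieldTheory.IsAlgClosed.AlgebraicClosure

/-! The trace of a cover of formal discs computes residues. -/

namespace Groth.Agent.Lib.FunFld.Res.CoverTrace

open PowerSeries
open Groth.Agent.Lib.FunFld.Res.Cover

universe u

section Semilinear

variable {A : Type u} [CommRing A] (e : ℕ) (he : 0 < e) (u₁ u₂ : (PowerSeries A)ˣ)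

theorem coord_map (T : PowerSeries A →+* PowerSeries A)
    (hT : ∀ c, T (σ e u₁ he c) = σ e u₂ he c) (z : PowerSeries A) (r : Fin e) :
    coord e u₂ (T z) r = ∑ j, coord e u₁ z j * coord e u₂ (T (X ^ (j : ℕ))) r := by
  conv_lhs => rw [← psi_coord e u₁ he z]
  simp only [psi, map_sum, map_mul, hT]
  have hlin : ∀ (s : Finset (Fin e)) (f : Fin e → PowerSeries A),
      coord e u₂ (∑ j ∈ s, f j) = ∑ j ∈ s, coord e u₂ (f j) := fun s f =>
    map_sum (AddMonoidHom.mk' (coord e u₂) (coord_add e u₂ he)) f s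
  rw [hlin, Finset.sum_apply]
  simp [coord_σ_mul e u₂ he]

include he in
theorem coord_X_pow (j r : Fin e) :
    coord e u₁ (X ^ (j : ℕ)) r = if r = j then 1 else 0 := by
  have h : psi e u₁ he (Pi.single j 1) = X ^ (j : ℕ) := by
    rw [psi, Finset.sum_eq_single j]
    · simp
    · intro b _ hb; simp [hb]
    · simp
  rw [← h, coord_psi, Pi.single_apply]

/-- The trace is invariant under an isomorphism of covers. -/
theorem tr_conj (T U : PowerSeries A →+* PowerSeries A) (hUT : ∀ z, U (T z) = z)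
    (hTU : ∀ z, T (U z) = z)
    (hT : ∀ c, T (σ e u₁ he c) = σ e u₂ he c) (h : PowerSeries A) :
    tr e u₂ (T h) = tr e u₁ h := by
  have hU : ∀ c, U (σ e u₂ he c) = σ e u₁ he c := fun c => by rw [← hT, hUT]
  have hδ : ∀ i j : Fin e, ∑ r : Fin e,
      coord e u₂ (T (X ^ (i : ℕ))) r * coord e u₁ (U (X ^ (r : ℕ))) j = if j = i then 1 else 0 := by
    intro i j
    rw [← coord_map e he u₂ u₁ U hU, hUT, coord_X_pow e he]
  calc tr e u₂ (T h) = ∑ r : Fin e, coord e u₂ (T (h * U (X ^ (r : ℕ)))) r := by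
        simp only [tr, map_mul, hTU]
    _ = ∑ r : Fin e, ∑ i : Fin e, (∑ j : Fin e, coord e u₁ (U (X ^ (r : ℕ))) j * coord e u₁ (h * X ^ (j : ℕ)) i) *
          coord e u₂ (T (X ^ (i : ℕ))) r := by
        refine Finset.sum_congr rfl fun r _ => ?_
        rw [coord_map e he u₁ u₂ T hT]
        refine Finset.sum_congr rfl fun i _ => ?_
        congr 1
        conv_lhs => rw [← psi_coord e u₁ he (U (X ^ (r : ℕ)))]
        simp only [psi, Finset.mul_sum]
        have hlin : ∀ f : Fin e → PowerSeries A,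
            coord e u₁ (∑ j, f j) i = ∑ j, coord e u₁ (f j) i := fun f => by
          rw [show coord e u₁ (∑ j, f j) = ∑ j, coord e u₁ (f j) from
            map_sum (AddMonoidHom.mk' (coord e u₁) (coord_add e u₁ he)) f _, Finset.sum_apply]
        rw [hlin]
        refine Finset.sum_congr rfl fun j _ => ?_
        rw [mul_left_comm, coord_σ_mul e u₁ he, Pi.smul_apply, smul_eq_mul]
    _ = ∑ i : Fin e, ∑ j : Fin e, (∑ r : Fin e, coord e u₂ (T (X ^ (i : ℕ))) r *
          coord e u₁ (U (X ^ (r : ℕ))) j) * coord e u₁ (h * X ^ (j : ℕ)) i := by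
        simp only [Finset.sum_mul]
        rw [Finset.sum_comm]
        refine Finset.sum_congr rfl fun i _ => ?_
        rw [Finset.sum_comm]
        exact Finset.sum_congr rfl fun j _ => Finset.sum_congr rfl fun r _ => by ring
    _ = tr e u₁ h := by
        simp only [hδ, ite_mul, one_mul, zero_mul, Finset.sum_ite_eq', Finset.mem_univ, if_true, tr]

theorem coeff_tr_one (g : PowerSeries A) (m : ℕ) :
    coeff m (tr e (1 : (PowerSeries A)ˣ) g) = (e : A) * coeff (e * m) g := by
  have hK : ∀ N M, K e (1 : (PowerSeries A)ˣ) N M = if M = N then 1 else 0 := fun N M => by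
    rw [K, S, Units.val_one, mul_one, ← pow_mul, ← pow_add, Nat.mod_add_div, coeff_X_pow]
    exact ite_congr (propext eq_comm) (fun _ => rfl) fun _ => rfl
  have hsol : ∀ (f : PowerSeries A) N, sol e (1 : (PowerSeries A)ˣ) f N = coeff N f := fun f N =>
    (sol_unique e _ (b := fun M => coeff M f) (fun N => by simp [hK]) N).symm
  simp only [tr, map_sum, coord, coeff_mk, hsol]
  rw [Finset.sum_congr rfl fun (j : Fin e) _ =>
    show coeff (j.val + e * m) (g * X ^ j.val) = coeff (e * m) g by
      rw [add_comm, coeff_mul_X_pow]]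
  simp

end Semilinear

section Roots

variable {L : Type u} [Field L] [IsAlgClosed L]

theorem exists_root [CharZero L] {e : ℕ} (he : 0 < e) (u : (PowerSeries L)ˣ) :
    ∃ v : (PowerSeries L)ˣ, v ^ e = u := by
  have hc : constantCoeff (u : PowerSeries L) ≠ 0 :=
    (PowerSeries.isUnit_iff_constantCoeff.mp u.isUnit).ne_zero
  obtain ⟨c, hc'⟩ := IsAlgClosed.exists_pow_nat_eq (constantCoeff (u : PowerSeries L)) he
  obtain ⟨a, ha, haI⟩ := HenselianRing.is_henselian
    (I := Ideal.span {(X : PowerSeries L)}) (Polynomial.X ^ e - Polynomial.C (u : PowerSeries L))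
    (Polynomial.monic_X_pow_sub_C _ he.ne') (C c)
    (by
      rw [Ideal.mem_span_singleton, X_dvd_iff, Polynomial.eval_sub, Polynomial.eval_pow,
        Polynomial.eval_X, Polynomial.eval_C, map_sub, map_pow, constantCoeff_C, hc', sub_self])
    (by
      refine IsUnit.map _ (PowerSeries.isUnit_iff_constantCoeff.mpr (isUnit_iff_ne_zero.mpr ?_))
      rw [Polynomial.derivative_sub, Polynomial.derivative_X_pow, Polynomial.derivative_C, sub_zero,
        Polynomial.eval_mul, Polynomial.eval_C, Polynomial.eval_pow, Polynomial.eval_X, map_mul,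
        map_pow, constantCoeff_C, map_natCast]
      exact mul_ne_zero (Nat.cast_ne_zero.mpr he.ne') (pow_ne_zero _ fun h => hc (by
        rw [← hc', h, zero_pow he.ne'])))
  simp only [Polynomial.IsRoot.def, Polynomial.eval_sub, Polynomial.eval_pow, Polynomial.eval_X,
    Polynomial.eval_C, sub_eq_zero] at ha
  have hau : IsUnit a := (isUnit_pow_iff he.ne').mp (by rw [ha]; exact u.isUnit)
  exact ⟨hau.unit, Units.ext ha⟩

omit [IsAlgClosed L] in
theorem coe_unit_inv (w : (PowerSeries L)ˣ) :
    (((w⁻¹ : (PowerSeries L)ˣ) : PowerSeries L) : LaurentSeries L) =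
      ((w : PowerSeries L) : LaurentSeries L)⁻¹ :=
  eq_inv_of_mul_eq_one_left (by rw [← PowerSeries.coe_mul, Units.inv_mul, PowerSeries.coe_one])

omit [IsAlgClosed L] in
theorem rhs_eq_res {e : ℕ} (he : 0 < e) (u : (PowerSeries L)ˣ) (g : PowerSeries L) (m : ℕ) :
    ((g : LaurentSeries L) * LocRes.D L (S e u : LaurentSeries L) *
      ((S e u : LaurentSeries L) ^ (m + 1))⁻¹).coeff (-1) = rhs e u g m := by
  have h1 : 1 ≤ e * (m + 1) := Nat.one_le_iff_ne_zero.mpr (by positivity)
  have hrw : (g : LaurentSeries L) * LocRes.D L (S e u : LaurentSeries L) *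
      ((S e u : LaurentSeries L) ^ (m + 1))⁻¹ = HahnSeries.single (-((e * (m + 1) : ℕ) : ℤ)) 1 *
        ((g * derivative L (S e u) * ((u ^ (m + 1))⁻¹).val : PowerSeries L) : LaurentSeries L) := by
    rw [PowerSeries.coe_mul, PowerSeries.coe_mul, coe_unit_inv, Units.val_pow_eq_pow_val,
      PowerSeries.coe_pow, LocRes.D_coe]
    conv_lhs => arg 2; rw [S, PowerSeries.coe_mul, mul_pow, mul_inv, HahnSeries.ofPowerSeries_X_pow,
      HahnSeries.single_pow, one_pow, HahnSeries.inv_single, inv_one, nsmul_eq_mul,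
      ← Nat.cast_mul, mul_comm (m + 1) e]
    ring
  rw [hrw, HahnSeries.coeff_single_mul, one_mul, PowerSeries.coeff_coe, if_neg (by omega), rhs]
  congr 2
  omega

theorem coeff_tr_char_zero [CharZero L] {e : ℕ} (he : 0 < e) (u : (PowerSeries L)ˣ)
    (g : PowerSeries L) (m : ℕ) : coeff m (tr e u g) = rhs e u g m := by
  obtain ⟨v, hv⟩ := exists_root he u
  let τ : PowerSeries L →ₐ[L] PowerSeries L := σ 1 v one_pos
  have hpsi : ∀ f : Fin 1 → PowerSeries L, psi 1 v one_pos f = τ (f 0) := fun f => by simp [psi, τ]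
  have hbij : Function.Bijective τ := by
    refine ⟨fun a b h => ?_, fun z => ⟨coord 1 v z 0, by rw [← hpsi, psi_coord]⟩⟩
    have := coord_psi 1 v one_pos (fun _ => a)
    rw [hpsi, h] at this
    have h2 := coord_psi 1 v one_pos (fun _ => b)
    rw [hpsi] at h2
    exact congrFun (this.symm.trans h2) 0
  let T : PowerSeries L ≃+* PowerSeries L := RingEquiv.ofBijective τ hbij
  have hT : ∀ z, T z = τ z := fun z => rfl
  have hS : τ (X ^ e) = S e u := by
    rw [map_pow, show τ X = S 1 v from σ_X 1 v one_pos, S, S, pow_one, mul_pow,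
      ← Units.val_pow_eq_pow_val, hv]
  have hσ : ∀ c, T (σ e 1 he c) = σ e u he c := fun c => by
    rw [hT, σ, σ, coe_substAlgHom, coe_substAlgHom]
    change σ 1 v one_pos _ = _
    rw [σ, coe_substAlgHom, subst_comp_subst_apply (hasSubst e 1 he) (hasSubst 1 v one_pos)]
    congr 1
    rw [← coe_substAlgHom (hasSubst 1 v one_pos)]
    change τ (S e 1) = _
    rw [S, Units.val_one, mul_one, hS]
  obtain ⟨h, rfl⟩ := hbij.2 g
  have htr : tr e u (τ h) = tr e 1 h :=
    tr_conj e he 1 u T.toRingHom T.symm.toRingHom T.symm_apply_apply T.apply_symm_apply hσ h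
  rw [htr, coeff_tr_one, ← rhs_eq_res he u]
  set s : LaurentSeries L := ((S 1 v : PowerSeries L) : LaurentSeries L)
  have hs : s = HahnSeries.single (1 : ℤ) 1 * ((v : PowerSeries L) : LaurentSeries L) := by
    simp only [s, S, pow_one, PowerSeries.coe_mul, HahnSeries.ofPowerSeries_X]
  have hSs : ((S e u : PowerSeries L) : LaurentSeries L) = s ^ e := by
    rw [← hS, map_pow, show τ X = S 1 v from σ_X 1 v one_pos, PowerSeries.coe_pow]
  have hs0 : s ≠ 0 := by
    rw [hs]
    exact mul_ne_zero (by simp) fun h0 => v.ne_zero (HahnSeries.ofPowerSeries_injective (h0.trans (map_zero _).symm))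
  have key : ∀ i : ℕ, (s ^ i * LocRes.D L (s ^ e) * ((s ^ e) ^ (m + 1))⁻¹).coeff (-1) =
      if i = e * m then (e : L) else 0 := by
    intro i
    have hrw : s ^ i * LocRes.D L (s ^ e) * ((s ^ e) ^ (m + 1))⁻¹ =
        (e : LaurentSeries L) * (s ^ ((i : ℤ) - e * m - 1) * LocRes.D L s) := by
      obtain ⟨e', rfl⟩ := Nat.exists_eq_succ_of_ne_zero he.ne'
      rw [Derivation.leibniz_pow, nsmul_eq_mul, smul_eq_mul, Nat.succ_sub_one, zpow_sub₀ hs0,
        zpow_sub₀ hs0, zpow_natCast, zpow_one, ← Nat.cast_mul, zpow_natCast]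
      field_simp
      simp only [Nat.succ_eq_add_one]
      ring
    rw [hrw, ← map_natCast (HahnSeries.C (Γ := ℤ) (R := L)), HahnSeries.C_mul_eq_smul,
      HahnSeries.coeff_smul, Hasse.Residue.coeff_zpow_mul_D (d := 1) hs ((i : ℤ) - e * m)]
    rcases eq_or_ne i (e * m) with rfl | hi
    · simp [Hasse.Residue.rc]
    · rw [if_neg hi]
      split_ifs with hle
      · rw [Hasse.Residue.rc_eq_zero v (by omega) (by rw [Int.toNat_of_nonneg hle]; ring), smul_zero]
      · rw [smul_zero]
  obtain ⟨h', hh⟩ : ∃ h', h = (trunc (e * m + 1) h : PowerSeries L) + X ^ (e * m + 1) * h' :=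
    ⟨PowerSeries.mk fun i => coeff (i + (e * m + 1)) h, by
      ext i
      rw [map_add, Polynomial.coeff_coe, coeff_trunc, coeff_X_pow_mul']
      rcases lt_or_ge i (e * m + 1) with hi | hi
      · rw [if_pos hi, if_neg (not_le.mpr hi), add_zero]
      · rw [if_neg (not_lt.mpr hi), if_pos hi, zero_add, coeff_mk, Nat.sub_add_cancel hi]⟩
  have hrest : (((τ (X ^ (e * m + 1) * h') : PowerSeries L) : LaurentSeries L) *
      LocRes.D L (s ^ e) * ((s ^ e) ^ (m + 1))⁻¹).coeff (-1) = 0 := by
    rw [map_mul, map_pow, show τ X = S 1 v from σ_X 1 v one_pos, PowerSeries.coe_mul,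
      PowerSeries.coe_pow]
    obtain ⟨e', rfl⟩ := Nat.exists_eq_succ_of_ne_zero he.ne'
    rw [Derivation.leibniz_pow, nsmul_eq_mul, smul_eq_mul, Nat.succ_sub_one]
    have : s ^ ((e' + 1) * m + 1) * ((τ h' : PowerSeries L) : LaurentSeries L) *
        ((↑(e' + 1) : LaurentSeries L) * (s ^ e' * LocRes.D L s)) * ((s ^ (e' + 1)) ^ (m + 1))⁻¹ =
        (↑(e' + 1) : LaurentSeries L) * (((τ h' : PowerSeries L) : LaurentSeries L) * LocRes.D L s) := by
      field_simp
      ring
    change (s ^ ((e' + 1) * m + 1) * ((τ h' : PowerSeries L) : LaurentSeries L) *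
        ((↑(e' + 1) : LaurentSeries L) * (s ^ e' * LocRes.D L s)) *
        ((s ^ (e' + 1)) ^ (m + 1))⁻¹).coeff (-1) = 0
    rw [this, LocRes.D_coe, ← map_natCast (HahnSeries.ofPowerSeries ℤ L), ← PowerSeries.coe_mul,
      ← PowerSeries.coe_mul, PowerSeries.coeff_coe, if_pos (by norm_num)]
  conv_rhs => rw [hSs, hh, map_add, PowerSeries.coe_add, add_mul, add_mul, HahnSeries.coeff_add,
    hrest, add_zero, trunc_apply, Nat.Ico_zero_eq_range, ← Polynomial.coeToPowerSeries.ringHom_apply,
    map_sum, map_sum, map_sum, Finset.sum_mul, Finset.sum_mul, HahnSeries.coeff_sum]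
  rw [Finset.sum_eq_single (e * m)]
  · rw [Polynomial.coeToPowerSeries.ringHom_apply, Polynomial.coe_monomial, monomial_eq_C_mul_X_pow,
      map_mul, map_pow, show τ X = S 1 v from σ_X 1 v one_pos, PowerSeries.coe_mul,
      PowerSeries.coe_pow, show τ (C (coeff (e * m) h)) = C (coeff (e * m) h) from σ_C 1 v one_pos _,
      HahnSeries.ofPowerSeries_C, mul_assoc, mul_assoc, HahnSeries.C_mul_eq_smul,
      HahnSeries.coeff_smul, ← mul_assoc, key, if_pos rfl, smul_eq_mul, mul_comm]
  · intro i _ hi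
    rw [Polynomial.coeToPowerSeries.ringHom_apply, Polynomial.coe_monomial, monomial_eq_C_mul_X_pow,
      map_mul, map_pow, show τ X = S 1 v from σ_X 1 v one_pos, PowerSeries.coe_mul,
      PowerSeries.coe_pow, show τ (C (coeff i h)) = C (coeff i h) from σ_C 1 v one_pos _,
      HahnSeries.ofPowerSeries_C, mul_assoc, mul_assoc, HahnSeries.C_mul_eq_smul,
      HahnSeries.coeff_smul, ← mul_assoc, key, if_neg hi, smul_zero]
  · intro hh'
    exact absurd (Finset.mem_range.mpr (Nat.lt_succ_self _)) hh'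

end Roots

/-- The trace computes residues, over any field. -/
theorem coeff_tr {F : Type u} [Field F] {e : ℕ} (he : 0 < e) (u : (PowerSeries F)ˣ)
    (g : PowerSeries F) (m : ℕ) : coeff m (tr e u g) = rhs e u g m := by
  let ev : MvPolynomial F ℤ →+* F := MvPolynomial.eval₂Hom (Int.castRingHom F) id
  have hev : Function.Surjective ev := fun a => ⟨MvPolynomial.X a, MvPolynomial.eval₂Hom_X' _ _ a⟩
  have : (RingHom.ker ev).IsPrime := RingHom.ker_isPrime ev
  let A := Localization.AtPrime (RingHom.ker ev)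
  have hu : ∀ y : (RingHom.ker ev).primeCompl, IsUnit (ev y) := fun y => isUnit_iff_ne_zero.mpr y.2
  let ε : A →+* F := IsLocalization.lift (S := A) hu
  have hε : Function.Surjective ε := fun a => by
    obtain ⟨b, rfl⟩ := hev a
    exact ⟨algebraMap _ A b, IsLocalization.lift_eq hu b⟩
  have : IsLocalHom ε := IsLocalHom.of_surjective ε hε
  obtain ⟨u', hu'⟩ := PowerSeries.map_surjective ε hε (u : PowerSeries F)
  have hu'' : IsUnit u' := by
    refine PowerSeries.isUnit_iff_constantCoeff.mpr (isUnit_of_map_unit ε _ ?_)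
    rw [← coeff_zero_eq_constantCoeff_apply, ← PowerSeries.coeff_map, hu',
      coeff_zero_eq_constantCoeff_apply]
    exact PowerSeries.isUnit_iff_constantCoeff.mp u.isUnit
  obtain ⟨g', rfl⟩ := PowerSeries.map_surjective ε hε g
  have : IsDomain A := IsLocalization.isDomain_localization
    (RingHom.ker ev).primeCompl_le_nonZeroDivisors
  let L := AlgebraicClosure (FractionRing A)
  let ι : A →+* L := (algebraMap (FractionRing A) L).comp (algebraMap A (FractionRing A))
  have hι : Function.Injective ι :=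
    (algebraMap (FractionRing A) L).injective.comp (IsFractionRing.injective A (FractionRing A))
  have : CharZero A := charZero_of_injective_ringHom
    (R := MvPolynomial F ℤ) (IsLocalization.injective A (RingHom.ker ev).primeCompl_le_nonZeroDivisors)
  have : CharZero L := charZero_of_injective_ringHom hι
  have hA : coeff m (tr e hu''.unit g') = rhs e hu''.unit g' m := hι (by
    rw [← coeff_map, map_tr e _ he, map_rhs]
    exact coeff_tr_char_zero he _ _ m)
  have h := congrArg ε hA
  rw [← coeff_map, map_tr e _ he, map_rhs] at h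
  rwa [show mapUnit hu''.unit ε = u from Units.ext hu'] at h

end Groth.Agent.Lib.FunFld.Res.CoverTrace
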