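import Groth.Agent.Lib.FunFld.Res.CoverTrace
import Mathlib.RingTheory.Trace.Basic

/-! Laurent series as a cover of Laurent series; trace and residue. -/

namespace Groth.Agent.Lib.FunFld.Res.Local

open PowerSeries
open Groth.Agent.Lib.FunFld.Res.Cover

universe v
variable {F : Type v} [Field F]

/-- A cover of discs. -/
structure Dat (F : Type v) [Field F] where
  /-- degree -/
  e : ℕ
  he : 0 < e
  /-- unit part -/
  u : (PowerSeries F)ˣ

variable (d : Dat F)

/-- The image of the parameter in Laurent series. -/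
noncomputable def param : LaurentSeries F := ((S d.e d.u : PowerSeries F) : LaurentSeries F)

theorem σ_injective : Function.Injective (σ d.e d.u d.he) := fun a b h => by
  let r0 : Fin d.e := ⟨0, d.he⟩
  have key : ∀ c, psi d.e d.u d.he (Pi.single r0 c) = σ d.e d.u d.he c := fun c => by
    rw [psi, Finset.sum_eq_single r0]
    · simp [r0]
    · intro r _ hr; simp [hr]
    · simp
  rw [← key, ← key] at h
  have := congrArg (coord d.e d.u) h
  rw [coord_psi, coord_psi] at this
  simpa using congrFun this r0

/-- The structure map on Laurent series. -/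
noncomputable def σL : LaurentSeries F →+* LaurentSeries F :=
  IsFractionRing.lift (A := PowerSeries F) (K := LaurentSeries F)
    (g := (HahnSeries.ofPowerSeries ℤ F).comp (σ d.e d.u d.he).toRingHom)
    (HahnSeries.ofPowerSeries_injective.comp (σ_injective d))

theorem σL_coe (p : PowerSeries F) :
    σL d (p : LaurentSeries F) = ((σ d.e d.u d.he p : PowerSeries F) : LaurentSeries F) :=
  IsFractionRing.lift_algebraMap _ p

theorem σL_single (n : ℕ) : σL d (HahnSeries.single (n : ℤ) 1) = param d ^ n := by
  rw [← HahnSeries.ofPowerSeries_X_pow, σL_coe, map_pow, σ_X, PowerSeries.coe_pow, param]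

theorem σL_C (a : F) : σL d (HahnSeries.C a) = HahnSeries.C a := by
  rw [← HahnSeries.ofPowerSeries_C, σL_coe, σ_C]

/-- The covering field. -/
def CovL (_d : Dat F) : Type v := LaurentSeries F

noncomputable instance : Field (CovL d) := inferInstanceAs (Field (LaurentSeries F))
noncomputable instance : Algebra (LaurentSeries F) (CovL d) := RingHom.toAlgebra (σL d)

/-- The identity into the cover. -/
noncomputable def mk : LaurentSeries F ≃+* CovL d := RingEquiv.refl _

theorem smul_def (a : LaurentSeries F) (z : CovL d) : a • z = mk d (σL d a) * z := rfl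

theorem param_ne_zero : param d ≠ 0 := fun h => by
  have h1 : σL d (HahnSeries.single (1 : ℤ) 1) = 0 := by
    rw [show (1 : ℤ) = ((1 : ℕ) : ℤ) from rfl, σL_single, pow_one, h]
  rw [_root_.map_eq_zero] at h1
  simp at h1

theorem param_eq : param d = HahnSeries.single (d.e : ℤ) 1 * ((d.u : PowerSeries F) : LaurentSeries F) := by
  rw [param, S, PowerSeries.coe_mul, HahnSeries.ofPowerSeries_X_pow]

/-- Clearing denominators. -/
theorem exists_clear (g : LaurentSeries F) : ∃ N : ℕ, ∀ n ≥ N, ∃ p : PowerSeries F,
    (p : LaurentSeries F) = param d ^ n * g := by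
  refine ⟨(-g.order).toNat, fun n hn =>
    ⟨X ^ (d.e * n - (-g.order).toNat) * ((d.u ^ n).val * (X ^ ((-g.order).toNat - (-g.order).toNat) *
      (X ^ g.order.toNat * g.powerSeriesPart))), ?_⟩⟩
  conv_rhs => rw [← g.single_order_mul_powerSeriesPart, param_eq, mul_pow, HahnSeries.single_pow,
    one_pow, ← PowerSeries.coe_pow, ← Units.val_pow_eq_pow_val]
  rw [Nat.sub_self, pow_zero, one_mul, PowerSeries.coe_mul, PowerSeries.coe_mul, PowerSeries.coe_mul,
    HahnSeries.ofPowerSeries_X_pow, HahnSeries.ofPowerSeries_X_pow]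
  have hle : (-g.order).toNat ≤ d.e * n :=
    hn.trans (Nat.le_mul_of_pos_left n d.he)
  have : HahnSeries.single ((d.e * n - (-g.order).toNat : ℕ) : ℤ) (1 : F) *
      HahnSeries.single (g.order.toNat : ℤ) 1 =
      HahnSeries.single (n • (d.e : ℤ)) 1 * HahnSeries.single g.order 1 := by
    rw [HahnSeries.single_mul_single, HahnSeries.single_mul_single, nsmul_eq_mul,
      Nat.cast_sub hle]
    congr 2
    push_cast
    have h1 : max g.order 0 - max (-g.order) 0 = g.order := by omega
    rw [mul_comm (n : ℤ)]
    omega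
  linear_combination (((d.u ^ n).val : PowerSeries F) : LaurentSeries F) *
    (g.powerSeriesPart : LaurentSeries F) * this

theorem mk_psi (a : Fin d.e → PowerSeries F) :
    mk d ((psi d.e d.u d.he a : PowerSeries F) : LaurentSeries F) =
      ∑ r, ((a r : PowerSeries F) : LaurentSeries F) •
        mk d (HahnSeries.single ((r : ℕ) : ℤ) 1) := by
  simp only [psi, map_sum, smul_def, map_mul, σL_coe, HahnSeries.ofPowerSeries_X_pow]

theorem span_top : Submodule.span (LaurentSeries F)
    (Set.range fun r : Fin d.e => mk d (HahnSeries.single ((r : ℕ) : ℤ) 1)) = ⊤ := by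
  refine eq_top_iff.mpr fun z _ => ?_
  obtain ⟨N, hN⟩ := exists_clear d ((mk d).symm z)
  obtain ⟨p, hp⟩ := hN N le_rfl
  have h1 : mk d (p : LaurentSeries F) ∈ Submodule.span (LaurentSeries F)
      (Set.range fun r : Fin d.e => mk d (HahnSeries.single ((r : ℕ) : ℤ) 1)) := by
    rw [← psi_coord d.e d.u d.he p, mk_psi]
    exact sum_mem fun r _ => Submodule.smul_mem _ _ (Submodule.subset_span ⟨r, rfl⟩)
  have h2 : (HahnSeries.single (N : ℤ) (1 : F)) • z = mk d (p : LaurentSeries F) := by
    rw [smul_def, σL_single, hp, map_mul, RingEquiv.apply_symm_apply]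
  rw [← inv_smul_smul₀ (HahnSeries.single_ne_zero (one_ne_zero' F) : HahnSeries.single (N : ℤ) (1 : F) ≠ 0) z, h2]
  exact Submodule.smul_mem _ _ h1

theorem linearIndependent : LinearIndependent (LaurentSeries F)
    fun r : Fin d.e => mk d (HahnSeries.single ((r : ℕ) : ℤ) 1) := by
  rw [Fintype.linearIndependent_iff]
  intro a ha
  obtain ⟨N, hN⟩ : ∃ N : ℕ, ∀ r, (-(a r).order).toNat ≤ N :=
    ⟨Finset.univ.sup fun r => (-(a r).order).toNat, fun r => Finset.le_sup
      (f := fun r => (-(a r).order).toNat) (Finset.mem_univ r)⟩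
  let q : Fin d.e → PowerSeries F := fun r =>
    X ^ (((a r).order + N).toNat) * (a r).powerSeriesPart
  have hq : ∀ r, (q r : LaurentSeries F) = HahnSeries.single (N : ℤ) 1 * a r := fun r => by
    conv_rhs => rw [← (a r).single_order_mul_powerSeriesPart, ← mul_assoc,
      HahnSeries.single_mul_single, one_mul]
    simp only [q, PowerSeries.coe_mul, HahnSeries.ofPowerSeries_X_pow]
    have := hN r
    rw [show ((((a r).order + N).toNat : ℕ) : ℤ) = (N : ℤ) + (a r).order by omega]
  have h0 : psi d.e d.u d.he q = 0 := by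
    apply HahnSeries.ofPowerSeries_injective (Γ := ℤ) (R := F)
    apply (mk d).injective
    rw [mk_psi, map_zero, map_zero]
    simp only [hq, ← smul_smul, ← Finset.smul_sum, ha, smul_zero]
  intro r
  have h1 : q r = 0 := by
    rw [← coord_psi d.e d.u d.he q, h0, coord_zero d.e d.u d.he]
    rfl
  have := hq r
  rw [h1, map_zero] at this
  exact (mul_eq_zero.mp this.symm).resolve_left (HahnSeries.single_ne_zero one_ne_zero)

/-- The basis `1, X, …, X ^ (e - 1)`. -/
noncomputable def basis : Module.Basis (Fin d.e) (LaurentSeries F) (CovL d) :=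
  .mk (linearIndependent d) (span_top d).ge

theorem basis_apply (r : Fin d.e) : basis d r = mk d (HahnSeries.single ((r : ℕ) : ℤ) 1) :=
  Module.Basis.mk_apply _ _ r

theorem repr_coe (p : PowerSeries F) (r : Fin d.e) :
    (basis d).repr (mk d (p : LaurentSeries F)) r = ((coord d.e d.u p r : PowerSeries F) : LaurentSeries F) := by
  conv_lhs => rw [← psi_coord d.e d.u d.he p, mk_psi]
  simp only [← basis_apply]
  rw [Module.Basis.repr_sum_self]

theorem trace_coe (p : PowerSeries F) :
    Algebra.trace (LaurentSeries F) (CovL d) (mk d (p : LaurentSeries F)) =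
      ((tr d.e d.u p : PowerSeries F) : LaurentSeries F) := by
  rw [Algebra.trace_eq_matrix_trace (basis d), tr, map_sum, Matrix.trace]
  refine Finset.sum_congr rfl fun r _ => ?_
  rw [Matrix.diag_apply, Algebra.leftMulMatrix_eq_repr_mul, basis_apply, ← map_mul,
    ← HahnSeries.ofPowerSeries_X_pow, ← PowerSeries.coe_mul, repr_coe]

theorem res_mul_D_param (g : LaurentSeries F) :
    (g * LocRes.D F (param d)).coeff (-1) =
      (Algebra.trace (LaurentSeries F) (CovL d) (mk d g)).coeff (-1) := by
  obtain ⟨N, hN⟩ := exists_clear d g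
  obtain ⟨p, hp⟩ := hN (N + 1) (Nat.le_succ N)
  have hg : g = σL d (HahnSeries.single (-((N + 1 : ℕ) : ℤ)) 1) * (p : LaurentSeries F) := by
    rw [hp, ← mul_assoc, ← σL_single, ← map_mul, HahnSeries.single_mul_single, neg_add_cancel,
      one_mul]
    simp
  have hl : (g * LocRes.D F (param d)).coeff (-1) = rhs d.e d.u p N := by
    rw [← CoverTrace.rhs_eq_res d.he, hg, show σL d (HahnSeries.single (-((N + 1 : ℕ) : ℤ)) 1) =
      (param d ^ (N + 1))⁻¹ by rw [← σL_single, ← map_inv₀, HahnSeries.inv_single, inv_one]]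
    rw [param]
    congr 1
    ring
  rw [hl, ← CoverTrace.coeff_tr d.he, hg, map_mul, ← smul_def, map_smul, trace_coe, smul_eq_mul,
    HahnSeries.coeff_single_mul, one_mul, PowerSeries.coeff_coe, if_neg (by omega)]
  congr 2
  omega

theorem D_σL (h : LaurentSeries F) :
    LocRes.D F (σL d h) = σL d (LocRes.D F h) * LocRes.D F (param d) := by
  have hps : ∀ p : PowerSeries F, LocRes.D F (σL d (p : LaurentSeries F)) =
      σL d (LocRes.D F (p : LaurentSeries F)) * LocRes.D F (param d) := fun p => by
    rw [LocRes.D_coe, σL_coe, σL_coe, LocRes.D_coe, param, LocRes.D_coe, ← PowerSeries.coe_mul, σ,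
      coe_substAlgHom, derivative_subst (hasSubst d.e d.u d.he)]
  obtain ⟨a, b, hb, rfl⟩ := IsFractionRing.div_surjective (PowerSeries F) h
  have hb0 : (b : LaurentSeries F) ≠ 0 := fun h0 =>
    nonZeroDivisors.ne_zero hb (HahnSeries.ofPowerSeries_injective (h0.trans (map_zero _).symm))
  change LocRes.D F (σL d ((a : LaurentSeries F) / (b : LaurentSeries F))) = _
  set q : LaurentSeries F := (a : LaurentSeries F) / (b : LaurentSeries F)
  have hq : q * (b : LaurentSeries F) = a := div_mul_cancel₀ _ hb0
  have h1 := congrArg (LocRes.D F) hq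
  have h2 := congrArg (fun z => LocRes.D F (σL d z)) hq
  simp only [map_mul, Derivation.leibniz, smul_eq_mul, hps] at h1 h2
  rw [← h1, map_add, map_mul, map_mul] at h2
  apply mul_left_cancel₀ ((map_ne_zero (σL d)).mpr hb0)
  linear_combination h2

/-- The residue is the residue of the trace. -/
theorem res_trace (g h : LaurentSeries F) :
    (g * LocRes.D F (σL d h)).coeff (-1) =
      (Algebra.trace (LaurentSeries F) (CovL d) (mk d g) * LocRes.D F h).coeff (-1) := by
  rw [D_σL, ← mul_assoc, res_mul_D_param, mul_comm g, map_mul, ← smul_def, map_smul, smul_eq_mul,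
    mul_comm]

end Groth.Agent.Lib.FunFld.Res.Local
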